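import Groth.Agent.Fano.K419.CoreCI
import Groth.Agent.Fcompl.H545.SysBasic
import Groth.Agent.Surf.K463.HilbF

/-!
# The smooth complete intersection curves `V_+(v₀, M₁, M₂)` on a cubic threefold

* `genus_of_E`, `deg_of_E`: genus and degree of an integral curve in `P^N` in terms of the Euler characteristics
  `E g t = χ(O_Y(t))`;
* `of_good`: a good solution `q ∈ Sol f` defines an integral curve of genus one and degree four on `V_+(f)`.
-/

set_option autoImplicit false
universe u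
open CategoryTheory CategoryTheory.Limits AlgebraicGeometry TopologicalSpace Opposite

namespace K419.QuartGood

open LefPen Groth.Agent Groth.Agent.Coherent.K51 Groth.Agent.Lefpen.H718.Chart
open Groth.Agent.Fano.K714.Rat Groth.Agent.Fano.K714.Quart K33.CIEuler K419.CoreCI

variable {k : Type u} [Field k]

section General

variable {N : ℕ} {Y : Scheme.{u}}

theorem E_zero (g : Y ⟶ CohB1.ProjSpace N k) :
    @Curv2.euler k _ Y ⟨g ≫ CohB1.ProjSpace.toSpec N k⟩ (Coh.structureModule Y) = E g 0 := by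
  letI : Y.Over (Spec (CommRingCat.of k)) := ⟨g ≫ CohB1.ProjSpace.toSpec N k⟩
  obtain ⟨e⟩ := K463.HilbF.nonempty_zero (n := N) (k := k)
  exact CurvesC.DegIso.euler_congr k ((Scheme.Modules.pullback g).mapIso e ≪≫ CurvesA.HHMap.pullbackUnit g).symm

theorem deg_eq_E (g : Y ⟶ CohB1.ProjSpace N k) (p : Y ⟶ Spec (CommRingCat.of k))
    (hp : g ≫ CohB1.ProjSpace.toSpec N k = p) (t : ℤ) :
    @Curv2.deg k _ Y ⟨p⟩ ((Scheme.Modules.pullback g).obj (Twist.twistProjSpace N k t)) 1 = E g t - E g 0 := by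
  subst hp
  letI : Y.Over (Spec (CommRingCat.of k)) := ⟨g ≫ CohB1.ProjSpace.toSpec N k⟩
  change Curv2.euler k Y _ - ((1 : ℕ) : ℤ) * Curv2.euler k Y _ = _
  rw [E_zero g]
  push_cast
  rw [one_mul]
  rfl

theorem genus_of_E [IsAlgClosed k] (g : Y ⟶ CohB1.ProjSpace N k) (p : Y ⟶ Spec (CommRingCat.of k))
    (hp : g ≫ CohB1.ProjSpace.toSpec N k = p) [IsIntegral Y] (hpr : IsProper p)
    (hdim : topologicalKrullDim Y = 1) : E g 0 = 1 - (@Curv2.genus k _ Y ⟨p⟩ : ℤ) := by
  subst hp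
  letI : Y.Over (Spec (CommRingCat.of k)) := ⟨g ≫ CohB1.ProjSpace.toSpec N k⟩
  have : IsProper (Y ↘ Spec (CommRingCat.of k)) := hpr
  rw [← E_zero g]
  exact K703.Chi.euler_structure k hdim

end General

theorem hyp_le (f : LefPen.Form 4 k 3) (q : Data k) (hq : q ∈ Sol f) : hypIdeal f ≤ cI q := by
  rw [cI_eq]
  apply hypIdeal_le_ciIdeal
  rw [hq.2, Fin.sum_univ_three]
  have h0 : (lin (q.1 0)).1 ∈ Ideal.span (Set.range fun j => (Gq q j).1) := Ideal.subset_span ⟨0, rfl⟩
  have h1 : (quad (q.2 1)).1 ∈ Ideal.span (Set.range fun j => (Gq q j).1) := Ideal.subset_span ⟨1, rfl⟩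
  have h2 : (quad (q.2 2)).1 ∈ Ideal.span (Set.range fun j => (Gq q j).1) := Ideal.subset_span ⟨2, rfl⟩
  exact Ideal.add_mem _ (Ideal.add_mem _ (Ideal.mul_mem_right _ _ h0) (Ideal.mul_mem_left _ _ h1))
    (Ideal.mul_mem_left _ _ h2)

theorem isIntegral_of_good (q : Data k) (hgood : Good q) : IsIntegral (cI q).subscheme := by
  have h1 : GeometricallyConnected ((cI q).subschemeι ≫ CohB1.ProjSpace.toSpec 4 k) := by
    have hd := hgood.2
    rw [cI_eq] at hd ⊢
    exact Groth.Agent.S14334.result k 4 3 (by norm_num) dg (by intro j; fin_cases j <;> simp [dg]) (Gq q) hd (by norm_num)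
  have := hgood.1
  have : ConnectedSpace (cI q).subscheme :=
    GeometricallyConnected.connectedSpace_of_subsingleton ((cI q).subschemeι ≫ CohB1.ProjSpace.toSpec 4 k)
  exact K532.Base.isIntegral_of_connected ((cI q).subschemeι ≫ CohB1.ProjSpace.toSpec 4 k)

variable [IsAlgClosed k]

theorem of_good (f : LefPen.Form 4 k 3) (q : Data k) (hq : q ∈ Sol f) (hgood : Good q) :
    ∃ (i : (cI q).subscheme ⟶ Xf f), i ≫ emb f = (cI q).subschemeι ∧ IsClosedImmersion i ∧
      i.ker = (cI q).comap (emb f) ∧ IsIntegral (cI q).subscheme ∧ IsProper (i ≫ ps f) ∧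
      @Curv2.genus k _ (cI q).subscheme ⟨i ≫ ps f⟩ = 1 ∧
      @Curv2.deg k _ (cI q).subscheme ⟨i ≫ ps f⟩ ((Scheme.Modules.pullback (i ≫ emb f)).obj
        (Twist.twistProjSpace 4 k 1)) 1 = 4 := by
  have hle := hyp_le f q hq
  obtain ⟨i, hi⟩ : ∃ i : (cI q).subscheme ⟶ Xf f, i ≫ emb f = (cI q).subschemeι :=
    ⟨Scheme.IdealSheafData.inclusion hle, Scheme.IdealSheafData.inclusion_subschemeι hle⟩
  have hip : (cI q).subschemeι ≫ CohB1.ProjSpace.toSpec 4 k = i ≫ ps f := by
    change _ = i ≫ emb f ≫ _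
    rw [← Category.assoc, hi]
  have hint := isIntegral_of_good q hgood
  have hpr : IsProper ((cI q).subschemeι ≫ CohB1.ProjSpace.toSpec 4 k) := by
    have : IsProper (CohB1.ProjSpace.toSpec 4 k) := inferInstance
    infer_instance
  have hcl' : IsClosedImmersion (i ≫ emb f) := by rw [hi]; infer_instance
  have hcl : IsClosedImmersion i := IsClosedImmersion.of_comp i (emb f)
  have hpr' : IsProper (i ≫ ps f) := by rw [← hip]; exact hpr
  have hreg := isReg q hgood.2
  have h0 := E_cI q hreg 0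
  have h1 := E_cI q hreg 1
  push_cast at h0 h1
  refine ⟨i, hi, hcl, ?_, hint, hpr', ?_, ?_⟩
  · have h2 := Groth.Agent.Fcompl.H545.SysBasic.comap_ker_comp i (emb f)
    rw [hi, Scheme.IdealSheafData.ker_subschemeι] at h2
    exact h2.symm
  · have h2 := genus_of_E (cI q).subschemeι (i ≫ ps f) hip hpr' hgood.2
    omega
  · rw [deg_eq_E (i ≫ emb f) (i ≫ ps f) (by rw [Category.assoc]), hi]
    omega

end K419.QuartGood
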