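import Groth.Agent.Fano.K714.QuartDef
import Groth.Agent.Surf.K33.CIEuler
import Groth.Agent.EssDim.K995.ConicEmb
import Groth.Agent.VBCurve.K703.Chi
import Groth.Agent.JacVar.K532.Base
import Groth.Agent.S14334

/-!
# Complete intersections of type `(1,2,2)` in `P⁴`

* `hypIdeal_le_ciIdeal`: forms in the ideal generated by the `G_j`;
* `Gq q`: the family of forms of degrees `1,2,2` attached to `q : Data k`, `cI_eq : cI q = ciIdeal (Gq q)`;
* `E_three`: Euler characteristics.
-/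

set_option autoImplicit false
universe u
open CategoryTheory CategoryTheory.Limits AlgebraicGeometry TopologicalSpace Opposite

namespace K419.CoreCI

open LefPen Groth.Agent Groth.Agent.Coherent.K51 Groth.Agent.Lefpen.H718.Chart Groth.Agent.Lefpen.H705.ChartPoly
open Groth.Agent.Lefpen.H705.HypIdeal
open Groth.Agent.Fano.K714.Rat Groth.Agent.Fano.K714.Quart K33.CIEuler
open Groth.Agent.Fdesc.LocGen (ores)

section General

variable {N r : ℕ} {k : Type u} [Field k]

theorem dehom_mem {a : Fin r → ℕ} (G : ∀ j : Fin r, Form N k (a j)) {d : ℕ} (F : Form N k d)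
    (h : F.1 ∈ Ideal.span (Set.range fun j => (G j).1)) (i : Fin (N + 1))
    (U : (CohB1.ProjSpace N k).affineOpens) (hU : U.1 ≤ LefPen.chart N k i) :
    ores hU (dehom F i) ∈ (ciIdeal G).ideal U := by
  rw [ciIdeal_ideal_of_le G i U hU]
  let ψ : MvPolynomial (Fin (N + 1)) k →+* Γ(CohB1.ProjSpace N k, U.1) :=
    (ores hU).comp ((polyToChart i).comp (Groth.Agent.Sga5.ProjChart.dehom N k i))
  have key : ∀ {e : ℕ} (H : Form N k e), ores hU (dehom H i) = ψ H.1 := by
    intro e H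
    rw [dehom_eq H i]
    rfl
  have h1 := Ideal.mem_map_of_mem ψ h
  rw [Ideal.map_span, ← Set.range_comp] at h1
  rw [key F]
  convert h1 using 3
  funext j
  exact key (G j)

theorem hypIdeal_le_ciIdeal {a : Fin r → ℕ} (G : ∀ j : Fin r, Form N k (a j)) {d : ℕ} (F : Form N k d)
    (h : F.1 ∈ Ideal.span (Set.range fun j => (G j).1)) : hypIdeal F ≤ ciIdeal G := by
  have h1 := K995.ConicEmb.hypIdeal_le_ker F (ciIdeal G).subschemeι fun i => by
    have h2 := dehom_mem G F h i ⟨LefPen.chart N k i, isAffineOpen_chart i⟩ le_rfl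
    rw [Groth.Agent.Fdesc.LocGen.ores_refl] at h2
    rw [← RingHom.mem_ker, Scheme.IdealSheafData.ker_subschemeι_app (ciIdeal G) ⟨LefPen.chart N k i, isAffineOpen_chart i⟩]
    exact h2
  rwa [Scheme.IdealSheafData.ker_subschemeι] at h1

/-- Removing the last form. -/
theorem E_last {r : ℕ} {a : Fin (r + 1) → ℕ} (G : ∀ j : Fin (r + 1), Form N k (a j)) (hG : CIReg.IsReg G) (t : ℤ) :
    E (ciIdeal G).subschemeι t = E (ciIdeal (fun j : Fin r => G j.castSucc)).subschemeι t -
      E (ciIdeal (fun j : Fin r => G j.castSucc)).subschemeι (t - a (Fin.last r)) := by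
  have hp : IsProper ((ciIdeal (fun j : Fin r => G j.castSucc)).subschemeι ≫ CohB1.ProjSpace.toSpec N k) := by
    have : IsProper (CohB1.ProjSpace.toSpec N k) := inferInstance
    infer_instance
  have h1 := E_step (ciIdeal (fun j : Fin r => G j.castSucc)).subschemeι hp
    ((hypIdeal (G (Fin.last r))).comap (yι (fun j : Fin r => G j.castSucc)))
    (CIStep.nonempty_iso (fun j : Fin r => G j.castSucc) (G (Fin.last r)) hG.fn_mem_nonZeroDivisors) t
  obtain ⟨e, he⟩ := CIReg.exists_ciIso G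
  rw [← he, E_iso]
  exact h1

theorem E_three {a : Fin 3 → ℕ} (G : ∀ j : Fin 3, Form N k (a j)) (hG : CIReg.IsReg G) (t : ℤ) :
    E (ciIdeal G).subschemeι t =
      ((VarietyB.EulerBinom.c N t - VarietyB.EulerBinom.c N (t - a 0)) -
        (VarietyB.EulerBinom.c N (t - a 1) - VarietyB.EulerBinom.c N (t - a 1 - a 0))) -
      ((VarietyB.EulerBinom.c N (t - a 2) - VarietyB.EulerBinom.c N (t - a 2 - a 0)) -
        (VarietyB.EulerBinom.c N (t - a 2 - a 1) - VarietyB.EulerBinom.c N (t - a 2 - a 1 - a 0))) := by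
  rw [E_last G hG, E_ci_two _ hG.castSucc, E_ci_two _ hG.castSucc]
  rfl

end General

section Data

variable {k : Type u} [Field k]

/-- The degrees. -/
def dg : Fin 3 → ℕ := ![1, 2, 2]

/-- The three forms. -/
noncomputable def Gq (q : Data k) : ∀ j : Fin 3, Form 4 k (dg j)
  | 0 => lin (q.1 0)
  | 1 => quad (q.2 1)
  | 2 => quad (q.2 2)

theorem cI_eq (q : Data k) : cI q = ciIdeal (Gq q) := by
  apply le_antisymm
  · exact sup_le (sup_le (le_iSup (fun j => hypIdeal (Gq q j)) 0) (le_iSup (fun j => hypIdeal (Gq q j)) 1))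
      (le_iSup (fun j => hypIdeal (Gq q j)) 2)
  · refine iSup_le fun j => ?_
    fin_cases j
    · exact le_sup_left.trans le_sup_left
    · exact le_sup_right.trans le_sup_left
    · exact le_sup_right

theorem isReg (q : Data k) (h : topologicalKrullDim ↥(cI q).subscheme = 1) : CIReg.IsReg (Gq q) := by
  rw [cI_eq] at h
  exact CIReg.isReg_of_dim (Gq q) (by omega) (by intro j; fin_cases j <;> simp [dg]) h.le

theorem choose_id (m : ℕ) : (((m + 5).choose 4 : ℕ) : ℤ) - ((m + 4).choose 4 : ℕ) - 2 * ((m + 3).choose 4 : ℕ) +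
    2 * ((m + 2).choose 4 : ℕ) + ((m + 1).choose 4 : ℕ) - (m.choose 4 : ℕ) = 4 * ((m : ℤ) + 1) := by
  have e : ∀ m j : ℕ, (((m + 1).choose (j + 1) : ℕ) : ℤ) = (m.choose j : ℕ) + (m.choose (j + 1) : ℕ) := fun m j => by
    rw [Nat.choose_succ_succ']; push_cast; rfl
  have e1 : ∀ m : ℕ, ((m.choose 1 : ℕ) : ℤ) = m := fun m => by rw [Nat.choose_one_right]
  rw [e (m + 4) 3, e (m + 3) 3, e (m + 2) 3, e (m + 1) 3, e m 3, e (m + 3) 2, e (m + 2) 2, e (m + 1) 2, e m 2,
    e (m + 2) 1, e (m + 1) 1, e m 1, e1, e1, e1]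
  simp only [Nat.reduceAdd]
  push_cast
  ring

theorem c_sub (m j : ℕ) (hj : j ≤ 4) : VarietyB.EulerBinom.c 4 ((m : ℤ) - j) = ((m + 4 - j).choose 4 : ℕ) := by
  rcases Nat.lt_or_ge m j with h | h
  · rw [c_zero_of _ _ (by omega) (by omega), Nat.choose_eq_zero_of_lt (by omega)]; rfl
  · obtain ⟨q, rfl⟩ := Nat.exists_eq_add_of_le h
    rw [show ((j + q : ℕ) : ℤ) - j = (q : ℕ) by push_cast; ring, c_nat]
    congr 2; omega

theorem E_cI (q : Data k) (h : CIReg.IsReg (Gq q)) (n : ℕ) : E (cI q).subschemeι n = 4 * n := by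
  rw [cI_eq, E_three _ h]
  have h0 : ((dg 0 : ℕ) : ℤ) = 1 := rfl
  have h1 : ((dg 1 : ℕ) : ℤ) = 2 := rfl
  have h2 : ((dg 2 : ℕ) : ℤ) = 2 := rfl
  rw [h0, h1, h2]
  rcases n with _ | m
  · have h3 := c_neg 4 0
    have h4 := c_nat 4 0
    norm_num at h3 h4 ⊢
    rw [h3, h4, c_zero_of 4 (-1) (by norm_num) (by norm_num), c_zero_of 4 (-2) (by norm_num) (by norm_num),
      c_zero_of 4 (-3) (by norm_num) (by norm_num), c_zero_of 4 (-4) (by norm_num) (by norm_num)]
    norm_num
  · have h3 := c_nat 4 (m + 1)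
    have c0 := c_sub m 0 (by norm_num)
    have c1 := c_sub m 1 (by norm_num)
    have c2 := c_sub m 2 (by norm_num)
    have c3 := c_sub m 3 (by norm_num)
    have c4 := c_sub m 4 (by norm_num)
    have e5 : 4 + (m + 1) = m + 5 := by ring
    rw [e5] at h3
    push_cast at c0 c1 c2 c3 c4 h3 ⊢
    have f1 : (m : ℤ) + 1 - 1 = m - 0 := by ring
    have f2 : (m : ℤ) + 1 - 2 = m - 1 := by ring
    have f3 : (m : ℤ) - 1 - 1 = m - 2 := by ring
    have f4 : (m : ℤ) - 1 - 2 = m - 3 := by ring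
    have f5 : (m : ℤ) - 3 - 1 = m - 4 := by ring
    rw [f1, f2, f3, f4, f5, h3, c0, c1, c2, c3, c4]
    have := choose_id m
    linarith

end Data

end K419.CoreCI
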