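import Groth.Agent.Fano.K419.KillLin
import Groth.Agent.Fano.K419.CoreCI
import Groth.Agent.Fano.K714.JacSm
import Groth.Agent.Fano.K714.LinSp
import Groth.Agent.Surf.K33.Quadrics
import Groth.Agent.S11223

/-!
# Regular sequences of three forms, and linear sections of a smooth cubic threefold

* `isReg_three`: `l, G₁, G₂` is regular if `G₁, G₂` is a regular sequence modulo the linear form `l`;
* `dvd_of_linear`, `not_dvd_form`: divisibility by linear forms;
* `false_of_three`: a smooth cubic threefold contains no plane.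
* `exists_form_coeff`: a form in the ideal generated by forms is a combination with forms as coefficients.
-/

set_option autoImplicit false
universe u
open CategoryTheory CategoryTheory.Limits AlgebraicGeometry TopologicalSpace Opposite MvPolynomial

namespace K419.RegThree

open LefPen Groth.Agent Groth.Agent.Coherent.K51 Groth.Agent.Lefpen.H718.Chart K419.KillLin
open Groth.Agent.Fano.K714.Rat Groth.Agent.Fano.K714.Quart

variable {k : Type u} [Field k] {n : ℕ}

theorem isReg_three {a : Fin 3 → ℕ} (G : ∀ j : Fin 3, Form n k (a j)) (K : Kill (G 0).1) (h0 : (G 0).1 ≠ 0)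
    (h1 : K.φ (G 1).1 ≠ 0)
    (h2 : ∀ f, K.φ (G 2).1 * f ∈ Ideal.span {K.φ (G 1).1} → f ∈ Ideal.span {K.φ (G 1).1}) : CIReg.IsReg G := by
  intro c f hf
  fin_cases c
  · have h : ((fun j => (G j).1) '' {j : Fin 3 | j < 0}) = ∅ := by
      ext x
      simp
    change (G 0).1 * f ∈ Ideal.span ((fun j => (G j).1) '' {j : Fin 3 | j < 0}) at hf
    change f ∈ Ideal.span ((fun j => (G j).1) '' {j : Fin 3 | j < 0})
    rw [h, Ideal.span_empty, Ideal.mem_bot] at hf ⊢
    exact (mul_eq_zero.mp hf).resolve_left h0
  · have h : ((fun j => (G j).1) '' {j : Fin 3 | j < 1}) = {(G 0).1} := by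
      ext x
      simp only [Set.mem_image, Set.mem_ofPred_eq, Set.mem_singleton_iff]
      constructor
      · rintro ⟨j, hj, rfl⟩
        have : j = 0 := by omega
        rw [this]
      · rintro rfl
        exact ⟨0, by decide, rfl⟩
    change (G 1).1 * f ∈ Ideal.span ((fun j => (G j).1) '' {j : Fin 3 | j < 1}) at hf
    change f ∈ Ideal.span ((fun j => (G j).1) '' {j : Fin 3 | j < 1})
    rw [h] at hf ⊢
    have h3 := K.φ_of_mem hf
    rw [map_mul] at h3
    exact K.mem_of_φ ((mul_eq_zero.mp h3).resolve_left h1)
  · have h : ((fun j => (G j).1) '' {j : Fin 3 | j < 2}) = {(G 0).1, (G 1).1} := by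
      ext x
      simp only [Set.mem_image, Set.mem_ofPred_eq, Set.mem_singleton_iff, Set.mem_insert_iff]
      constructor
      · rintro ⟨j, hj, rfl⟩
        have : j = 0 ∨ j = 1 := by omega
        rcases this with rfl | rfl
        · exact Or.inl rfl
        · exact Or.inr rfl
      · rintro (rfl | rfl)
        · exact ⟨0, by decide, rfl⟩
        · exact ⟨1, by decide, rfl⟩
    change (G 2).1 * f ∈ Ideal.span ((fun j => (G j).1) '' {j : Fin 3 | j < 2}) at hf
    change f ∈ Ideal.span ((fun j => (G j).1) '' {j : Fin 3 | j < 2})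
    rw [h, K.mem_span_pair_iff] at hf ⊢
    rw [map_mul] at hf
    exact h2 _ hf

/-- A nonzero linear form is prime. -/
theorem prime_linear {m : MvPolynomial (Fin (n + 1)) k} (hm : m.IsHomogeneous 1) (hm0 : m ≠ 0) : Prime m := by
  obtain ⟨K⟩ := exists_kill m hm hm0
  have h1 : RingHom.ker (K.φ : MvPolynomial (Fin (n + 1)) k →+* MvPolynomial (Fin n) k) = Ideal.span {m} := by
    ext f
    exact ⟨fun h => K.mem_of_φ h, fun h => K.φ_of_mem h⟩
  rw [← Ideal.span_singleton_prime hm0, ← h1]
  exact RingHom.ker_isPrime _

/-- No plane: three dependent linear forms cannot have their common zeros on a smooth cubic threefold. -/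
theorem false_of_three [IsAlgClosed k] (f : Form 4 k 3) (hf : f ≠ 0) [hs : Smooth (ps f)] (w : Fin 3 → Fin 5 → k)
    (hw : ¬ LinearIndependent k w)
    (h : ∀ x : Fin 5 → k, (∀ j, ∑ i, w j i * x i = 0) → eval x f.1 = 0) : False := by
  let A : Matrix (Fin 3) (Fin 5) k := Matrix.of w
  let U : Submodule k (Fin 5 → k) := LinearMap.ker A.mulVecLin
  have hmem : ∀ x ∈ U, ∀ j, ∑ i, w j i * x i = 0 := fun x hx j => congrFun hx j
  have h1 := K714.LinSp.two_mul_finrank_le (n := 5) (d := 3) (by norm_num) f.1 f.2 U
    (fun u hu => h u (hmem u hu)) (fun u hu hu0 =>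
      Groth.Agent.Fano.K714.JacSm.exists_pderiv f (fun h => hf (Subtype.ext h)) hs u hu0 (h u (hmem u hu)))
  have h2 := A.mulVecLin.finrank_range_add_finrank_ker
  rw [Module.finrank_fin_fun] at h2
  have h3 : Module.finrank k (LinearMap.range A.mulVecLin) = Module.finrank k (Submodule.span k (Set.range w)) :=
    Matrix.rank_eq_finrank_span_row A
  have h4 : Module.finrank k (Submodule.span k (Set.range w)) ≤ 2 := by
    have h5 := finrank_range_le_card (R := k) w
    rw [Fintype.card_fin] at h5
    by_contra hc
    apply hw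
    rw [linearIndependent_iff_card_eq_finrank_span, Fintype.card_fin]
    change 3 = Module.finrank k (Submodule.span k (Set.range w))
    change Module.finrank k (Submodule.span k (Set.range w)) ≤ 3 at h5
    omega
  change 2 * Module.finrank k (LinearMap.ker A.mulVecLin) ≤ 5 at h1
  omega

end K419.RegThree
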