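import Groth.Agent.Fano.K419.CoreCI
import Groth.Agent.S10830
import Groth.Agent.Surf.K33.Quadrics

/-!
# Complete intersection ideals are saturated

* `exists_pow_mul_mem_of_le`: if `F` vanishes on `V(G)` then `T_i^R F ∈ (G)`;
* `mem_span_of_le`: if moreover `G, T_i` is a regular sequence then `F ∈ (G)`;
* `isReg_of_curve`: if `V(G_1, …, G_r) ⊂ P^{r+1}` is an integral curve on which `G_{r+1}` does not vanish then
  `G_1, …, G_{r+1}` is a regular sequence.
-/

set_option autoImplicit false
universe u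
open CategoryTheory CategoryTheory.Limits AlgebraicGeometry TopologicalSpace Opposite

namespace K419.SatCI

open LefPen Groth.Agent Groth.Agent.Coherent.K51 Groth.Agent.Lefpen.H718.Chart Groth.Agent.Lefpen.H705.ChartPoly
open Groth.Agent.Lefpen.H705.HypIdeal Groth.Agent.Lefpen.H121.ChartLift Groth.Agent.Sga5
open Groth.Agent.Fdesc.LocGen (ores)

variable {N r : ℕ} {k : Type u} [Field k]

theorem exists_pow_mul_mem_of_le {a : Fin r → ℕ} (G : ∀ j : Fin r, Form N k (a j)) {d : ℕ} (F : Form N k d)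
    (h : hypIdeal F ≤ ciIdeal G) (i : Fin (N + 1)) :
    ∃ R : ℕ, MvPolynomial.X i ^ R * F.1 ∈ Ideal.span (Set.range fun j => (G j).1) := by
  refine exists_pow_mul_mem (fun j => (G j).1) a (fun j => (G j).2) i F.2 ?_
  have h1 : LefPen.dehom F i ∈ (ciIdeal G).ideal ⟨chart N k i, isAffineOpen_chart i⟩ := by
    apply h
    rw [hypIdeal_ideal_of_le F i ⟨chart N k i, isAffineOpen_chart i⟩ le_rfl, Groth.Agent.Fdesc.LocGen.ores_refl]
    exact Ideal.mem_span_singleton_self _
  rw [← Scheme.IdealSheafData.ker_subschemeι_app (ciIdeal G) ⟨chart N k i, isAffineOpen_chart i⟩, RingHom.mem_ker] at h1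
  rw [← ker_toY, RingHom.mem_ker]
  have h2 := dehom_eq F i
  rw [h2] at h1
  exact h1

theorem mem_span_of_le {a : Fin (r + 1) → ℕ} (G : ∀ j : Fin (r + 1), Form N k (a j)) (hG : CIReg.IsReg G)
    (i : Fin (N + 1)) (hi : (G (Fin.last r)).1 = MvPolynomial.X i) {d : ℕ} (F : Form N k d)
    (h : hypIdeal F ≤ ciIdeal (fun j : Fin r => G j.castSucc)) :
    F.1 ∈ Ideal.span (Set.range fun j : Fin r => (G j.castSucc).1) := by
  obtain ⟨R, hR⟩ := exists_pow_mul_mem_of_le (fun j : Fin r => G j.castSucc) F h i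
  induction R with
  | zero => rwa [pow_zero, one_mul] at hR
  | succ R ih =>
    refine ih (hG.last _ ?_)
    rw [hi, ← mul_assoc, ← pow_succ']
    exact hR

theorem dim_le_zero {X : Scheme.{u}} [IsIntegral X] (hX : topologicalKrullDim X = 1) (J : X.IdealSheafData)
    (hJ : J ≠ ⊥) : topologicalKrullDim J.subscheme ≤ 0 := by
  have h1 : (J.support : Set X) ≠ Set.univ := by
    intro h
    apply hJ
    rw [← Scheme.IdealSheafData.support_eq_top_iff]
    exact SetLike.coe_injective h
  have h2 := Groth.Agent.S10830.result X (by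
    rw [hX]
    intro h
    exact absurd (WithBot.coe_injective (show ((1 : ℕ∞) : WithBot ℕ∞) = ((⊤ : ℕ∞) : WithBot ℕ∞) from h))
      (by decide)) _ J.support.isClosed h1
  rw [hX] at h2
  have h3 : topologicalKrullDim J.subscheme ≤ topologicalKrullDim ↥(J.support : Set X) := by
    have hr := J.range_subschemeι
    have h4 : ∀ x, J.subschemeι x ∈ (J.support : Set X) := fun x => hr ▸ Set.mem_range_self x
    exact (J.subschemeι.isEmbedding.isInducing.codRestrict h4).topologicalKrullDim_le
  exact (ENat.WithBot.lt_add_one_iff (m := 0)).1 (by simpa using lt_of_le_of_lt h3 h2)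

theorem dim_le {a : Fin (r + 1) → ℕ} (G : ∀ j : Fin (r + 1), Form N k (a j))
    [hint : IsIntegral (ciIdeal fun j : Fin r => G j.castSucc).subscheme]
    (hd : topologicalKrullDim (ciIdeal fun j : Fin r => G j.castSucc).subscheme = 1)
    (hne : (hypIdeal (G (Fin.last r))).comap (yι fun j : Fin r => G j.castSucc) ≠ ⊥) :
    topologicalKrullDim (ciIdeal G).subscheme ≤ 0 := by
  obtain ⟨e, -⟩ := CIReg.exists_ciIso G
  exact (Scheme.homeoOfIso e).isEmbedding.isInducing.topologicalKrullDim_le.trans (dim_le_zero hd _ hne)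

theorem isReg_of_curve {a : Fin (r + 1) → ℕ} (G : ∀ j : Fin (r + 1), Form N k (a j)) (hr : r + 1 = N)
    (ha : ∀ j, 1 ≤ a j)
    [hint : IsIntegral (ciIdeal fun j : Fin r => G j.castSucc).subscheme]
    (hd : topologicalKrullDim (ciIdeal fun j : Fin r => G j.castSucc).subscheme = 1)
    (hne : (hypIdeal (G (Fin.last r))).comap (yι fun j : Fin r => G j.castSucc) ≠ ⊥) : CIReg.IsReg G := by
  refine CIReg.isReg_of_dim G hr.le ha ?_
  rw [show N - (r + 1) = 0 by omega]
  exact dim_le G hd hne

end K419.SatCI
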