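import Groth.Agent.Fano.K419.CurveE
import Groth.Agent.Fano.K419.SatCI
import Groth.Agent.Fano.K419.RegThree

/-!
# Elliptic quartics on a smooth cubic threefold are complete intersections `V_+(v₀, M₁, M₂)`

* `exists_sol`: an elliptic quartic curve on a smooth cubic threefold `V_+(f)` is `V_+(v₀, M₁, M₂)` for a
  decomposition `f = v₀ M₀ + v₁ M₁ + v₂ M₂` with linearly independent `v_j`.
-/

set_option autoImplicit false
universe u
open CategoryTheory CategoryTheory.Limits AlgebraicGeometry TopologicalSpace Opposite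

namespace K419.QuartClass

open LefPen Groth.Agent Groth.Agent.Coherent.K51 Groth.Agent.Lefpen.H718.Chart K33.CIEuler
open Groth.Agent.Fano.K714.Rat Groth.Agent.Fano.K714.Quart K419.KillLin K419.RegThree K419.CurveE K419.CoreCI
open K419.QuartGood

variable {k : Type u} [Field k]

section Vanish

variable {n : ℕ} {C : Scheme.{u}} (j : C ⟶ CohB1.ProjSpace n k) [IsIntegral C]

/-- The homogeneous prime ideal of the image of `j`. -/
noncomputable abbrev PP : Ideal (MvPolynomial (Fin (n + 1)) k) := (j (genericPoint C)).asHomogeneousIdeal.toIdeal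

theorem mem_iff {d : ℕ} (F : Form n k d) : F.1 ∈ PP j ↔ hypIdeal F ≤ j.ker := by
  rw [← K33.Quadrics.comap_eq_bot_iff, ← Scheme.IdealSheafData.map_bot, Scheme.IdealSheafData.le_map_iff_comap_le,
    le_bot_iff]

theorem mem_of_formSec [C.Over (Spec (CommRingCat.of k))]
    (hj : j ≫ CohB1.ProjSpace.toSpec n k = C ↘ (Spec (CommRingCat.of k))) {d : ℕ} (F : Form n k d)
    (h : K330.FormSec.formSec C j hj F = 0) : F.1 ∈ PP j :=
  (K33.Quadrics.comap_eq_bot_iff j F).1 (K330.FormSec.comap_eq_bot j F (K33.DP4.sec_eq_zero j hj F h))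

end Vanish

section LinAlg

theorem exists_pair' {V W H : Type*} [AddCommGroup V] [Module k V] [AddCommGroup W] [Module k W] [AddCommGroup H]
    [Module k H] [Module.Finite k H] (σ : V →ₗ[k] H) (Φ : V →ₗ[k] W) (h1 : Module.finrank k H ≤ 8)
    (hV : Module.finrank k V = 15) (hW : Module.finrank k W = 10) (hΦ : Function.Surjective Φ) :
    ∃ Q : Fin 2 → V, (∀ i, σ (Q i) = 0) ∧ LinearIndependent k (fun i => Φ (Q i)) := by
  have hfin : Module.Finite k V := Module.finite_of_finrank_pos (by rw [hV]; norm_num)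
  have hfinW : Module.Finite k W := Module.finite_of_finrank_pos (by rw [hW]; norm_num)
  have h2 := σ.finrank_range_add_finrank_ker
  have h3 := Submodule.finrank_le (LinearMap.range σ)
  have h4 := Φ.finrank_range_add_finrank_ker
  rw [LinearMap.range_eq_top.2 hΦ, finrank_top] at h4
  have h5 := (Φ.domRestrict (LinearMap.ker σ)).finrank_range_add_finrank_ker
  have h6 : Module.finrank k (LinearMap.ker (Φ.domRestrict (LinearMap.ker σ))) ≤ Module.finrank k (LinearMap.ker Φ) := by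
    let g : LinearMap.ker (Φ.domRestrict (LinearMap.ker σ)) →ₗ[k] LinearMap.ker Φ :=
      { toFun := fun x => ⟨x.1.1, x.2⟩
        map_add' := fun x y => rfl
        map_smul' := fun c x => rfl }
    refine LinearMap.finrank_le_finrank_of_injective (f := g) fun x y hxy => ?_
    have : (g x).1 = (g y).1 := congrArg Subtype.val hxy
    exact Subtype.ext (Subtype.ext this)
  have h7 : 2 ≤ Module.finrank k (LinearMap.range (Φ.domRestrict (LinearMap.ker σ))) := by omega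
  obtain ⟨g, hg⟩ := exists_linearIndependent_of_le_finrank h7
  choose Q hQ using fun i => (g i).2
  refine ⟨fun i => (Q i).1, fun i => (Q i).2, ?_⟩
  have h8 : (fun i => Φ (Q i).1) = fun i => ((g i : _) : W) := funext fun i => hQ i
  rw [h8]
  exact hg.map' (LinearMap.range (Φ.domRestrict (LinearMap.ker σ))).subtype (Submodule.ker_subtype _)

theorem exists_ker {V H : Type*} [AddCommGroup V] [Module k V] [AddCommGroup H]
    [Module k H] [Module.Finite k H] (σ : V →ₗ[k] H) (h1 : Module.finrank k H ≤ 4)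
    (hV : Module.finrank k V = 5) : ∃ v : V, v ≠ 0 ∧ σ v = 0 := by
  have hfin : Module.Finite k V := Module.finite_of_finrank_pos (by rw [hV]; norm_num)
  have h2 := σ.finrank_range_add_finrank_ker
  have h3 := Submodule.finrank_le (LinearMap.range σ)
  have h4 : 0 < Module.finrank k (LinearMap.ker σ) := by omega
  obtain ⟨v, hv⟩ := Module.finrank_pos_iff_exists_ne_zero.1 h4
  exact ⟨v.1, fun h => hv (Subtype.ext h), v.2⟩

end LinAlg

section NoPlane

/-- The degrees. -/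
def dp : Fin 3 → ℕ := ![1, 1, 3]

/-- Three forms of degrees `1, 1, 3`. -/
def Gp (l l' : Form 4 k 1) (f : Form 4 k 3) : ∀ j : Fin 3, Form 4 k (dp j)
  | 0 => l
  | 1 => l'
  | 2 => f

theorem choose_id' (m : ℕ) : (((m + 6).choose 4 : ℕ) : ℤ) - 2 * ((m + 5).choose 4 : ℕ) + ((m + 4).choose 4 : ℕ) -
    ((m + 3).choose 4 : ℕ) + 2 * ((m + 2).choose 4 : ℕ) - ((m + 1).choose 4 : ℕ) = 3 * ((m : ℤ) + 2) := by
  have e : ∀ m j : ℕ, (((m + 1).choose (j + 1) : ℕ) : ℤ) = (m.choose j : ℕ) + (m.choose (j + 1) : ℕ) := fun m j => by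
    rw [Nat.choose_succ_succ']; push_cast; rfl
  have e1 : ∀ m : ℕ, ((m.choose 1 : ℕ) : ℤ) = m := fun m => by rw [Nat.choose_one_right]
  rw [e (m + 5) 3, e (m + 4) 3, e (m + 3) 3, e (m + 2) 3, e (m + 1) 3, e m 3, e (m + 4) 2, e (m + 3) 2, e (m + 2) 2,
    e (m + 1) 2, e m 2, e (m + 3) 1, e (m + 2) 1, e (m + 1) 1, e m 1, e1, e1, e1, e1]
  simp only [Nat.reduceAdd]
  push_cast
  ring

theorem E_Gp (l l' : Form 4 k 1) (f : Form 4 k 3) (h : CIReg.IsReg (Gp l l' f)) (m : ℕ) :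
    E (ciIdeal (Gp l l' f)).subschemeι ((m + 5 : ℕ) : ℤ) = 3 * ((m : ℤ) + 5) := by
  rw [E_three _ h]
  have h0 : ((dp 0 : ℕ) : ℤ) = 1 := rfl
  have h1 : ((dp 1 : ℕ) : ℤ) = 1 := rfl
  have h2 : ((dp 2 : ℕ) : ℤ) = 3 := rfl
  rw [h0, h1, h2]
  have c0 := c_nat 4 (m + 5)
  have c1 := c_nat 4 (m + 4)
  have c2 := c_nat 4 (m + 3)
  have c3 := c_nat 4 (m + 2)
  have c4 := c_nat 4 (m + 1)
  have c5 := c_nat 4 m
  have f1 : ((m + 5 : ℕ) : ℤ) - 1 = ((m + 4 : ℕ) : ℤ) := by push_cast; ring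
  have f2 : ((m + 4 : ℕ) : ℤ) - 1 = ((m + 3 : ℕ) : ℤ) := by push_cast; ring
  have f3 : ((m + 5 : ℕ) : ℤ) - 3 = ((m + 2 : ℕ) : ℤ) := by push_cast; ring
  have f4 : ((m + 2 : ℕ) : ℤ) - 1 = ((m + 1 : ℕ) : ℤ) := by push_cast; ring
  have f5 : ((m + 1 : ℕ) : ℤ) - 1 = ((m : ℕ) : ℤ) := by push_cast; ring
  rw [f1, f2, f3, f4, f5, c0, c1, c2, c3, c4, c5]
  have := choose_id' (m + 3)
  rw [show 4 + (m + 5) = m + 3 + 6 by ring, show 4 + (m + 4) = m + 3 + 5 by ring, show 4 + (m + 3) = m + 3 + 4 by ring,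
    show 4 + (m + 2) = m + 3 + 3 by ring, show 4 + (m + 1) = m + 3 + 2 by ring, show 4 + m = m + 3 + 1 by ring]
  push_cast at this ⊢
  linarith

theorem φ_eq_zero [IsAlgClosed k] (f : Form 4 k 3) (hf : f ≠ 0) [Smooth (ps f)] {C : Scheme.{u}}
    (j : C ⟶ CohB1.ProjSpace 4 k) [IsClosedImmersion j] (hfj : hypIdeal f ≤ j.ker) (hE : ∀ m : ℕ, E j m = 4 * m)
    (l l' : Form 4 k 1) (hl0 : l.1 ≠ 0) (K : Kill l.1) (hl : hypIdeal l ≤ j.ker) (hl' : hypIdeal l' ≤ j.ker) :
    K.φ l'.1 = 0 := by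
  by_contra h0
  have hpr : Prime (K.φ l'.1) := prime_linear (K.homφ l'.2) h0
  have hreg : CIReg.IsReg (Gp l l' f) := by
    refine isReg_three (Gp l l' f) K hl0 h0 fun g hg => ?_
    rw [Ideal.mem_span_singleton] at hg ⊢
    refine (hpr.dvd_or_dvd hg).resolve_left fun hd => ?_
    obtain ⟨c, hc⟩ := hd
    have h1 : f.1 - l'.1 * K.ψ c ∈ Ideal.span {l.1} := K.mem_of_φ (by
      rw [map_sub, map_mul, K.φψ, sub_eq_zero]
      exact hc)
    obtain ⟨a, ha⟩ := Ideal.mem_span_singleton'.1 h1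
    refine false_of_three f hf ![fun i => MvPolynomial.eval 0 (MvPolynomial.pderiv i l.1),
      fun i => MvPolynomial.eval 0 (MvPolynomial.pderiv i l'.1), 0] (fun hli => hli.ne_zero 2 rfl) fun x hx => ?_
    have e1 : MvPolynomial.eval x l.1 = 0 := by
      rw [K656.Trilin.eval_euler1 l.2]
      exact hx 0
    have e2 : MvPolynomial.eval x l'.1 = 0 := by
      rw [K656.Trilin.eval_euler1 l'.2]
      exact hx 1
    have e3 := congrArg (MvPolynomial.eval x) ha
    rw [map_mul, e1, mul_zero, map_sub, map_mul, e2, zero_mul, sub_zero] at e3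
    exact e3.symm
  have hle : ciIdeal (Gp l l' f) ≤ j.ker := by
    refine iSup_le fun c => ?_
    fin_cases c
    · exact hl
    · exact hl'
    · exact hfj
  obtain ⟨n₀, hn₀⟩ := E_le_of_le j (ciIdeal (Gp l l' f)) hle
  have h1 := hn₀ (n₀ + 5) (by omega)
  rw [E_Gp l l' f hreg n₀, hE] at h1
  push_cast at h1
  linarith

end NoPlane

section Main

variable [IsAlgClosed k]

omit [IsAlgClosed k] in
theorem quad_eq [CharZero k] (Q : Form 4 k 2) :
    ∃ M : Fin 5 → Fin 5 → k, quad M = Q := by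
  refine ⟨fun i j => 2⁻¹ * MvPolynomial.eval 0 (MvPolynomial.pderiv j (MvPolynomial.pderiv i Q.1)), Subtype.ext ?_⟩
  have h1 : Q.1.IsHomogeneous 2 := Q.2
  have h2 := h1.sum_X_mul_pderiv
  have h3 : ∀ i, MvPolynomial.pderiv i Q.1 =
      ∑ j, MvPolynomial.C (MvPolynomial.eval 0 (MvPolynomial.pderiv j (MvPolynomial.pderiv i Q.1))) *
        MvPolynomial.X j := fun i => K656.Trilin.euler1 (h1.pderiv (i := i))
  have h4 : (quad fun i j => 2⁻¹ * MvPolynomial.eval 0 (MvPolynomial.pderiv j (MvPolynomial.pderiv i Q.1))).1 =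
      ∑ i, MvPolynomial.C (2⁻¹ : k) * (MvPolynomial.X i * MvPolynomial.pderiv i Q.1) := by
    simp only [quad, AddSubmonoidClass.coe_finsetSum, SetLike.val_smul, MvPolynomial.smul_eq_C_mul]
    refine Finset.sum_congr rfl fun i _ => ?_
    conv_rhs => rw [h3 i]
    rw [Finset.mul_sum, Finset.mul_sum]
    refine Finset.sum_congr rfl fun j _ => ?_
    rw [MvPolynomial.C_mul]
    ring
  rw [h4, ← Finset.mul_sum, h2, nsmul_eq_mul, ← mul_assoc]
  have h5 : MvPolynomial.C (2⁻¹ : k) * (((2 : ℕ) : MvPolynomial (Fin 5) k)) = 1 := by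
    rw [← map_natCast (MvPolynomial.C (σ := Fin 5) (R := k)), ← MvPolynomial.C_mul]
    have : (2⁻¹ : k) * ((2 : ℕ) : k) = 1 := by
      push_cast
      exact inv_mul_cancel₀ two_ne_zero
    rw [this, MvPolynomial.C_1]
  rw [h5, one_mul]

omit [IsAlgClosed k] in
theorem lin_eq' (l : Form 4 k 1) : lin (fun i => MvPolynomial.eval 0 (MvPolynomial.pderiv i l.1)) = l := by
  apply Subtype.ext
  have h1 : l.1.IsHomogeneous 1 := l.2
  conv_rhs => rw [K656.Trilin.euler1 h1]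
  simp [lin, MvPolynomial.smul_eq_C_mul]

/-- The degrees. -/
def d4 : Fin 4 → ℕ := ![1, 2, 2, 1]

/-- Four forms of degrees `1, 2, 2, 1`. -/
def G4 (l : Form 4 k 1) (Q Q' : Form 4 k 2) (x : Form 4 k 1) : ∀ j : Fin 4, Form 4 k (d4 j)
  | 0 => l
  | 1 => Q
  | 2 => Q'
  | 3 => x

theorem aux [CharZero k] (f : Form 4 k 3) (hf : f ≠ 0) [Smooth (ps f)] {C : Scheme.{u}}
    (j : C ⟶ CohB1.ProjSpace 4 k) [IsClosedImmersion j] [IsIntegral C] (p : C ⟶ Spec (CommRingCat.of k))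
    (hj : j ≫ CohB1.ProjSpace.toSpec 4 k = p) (hpr : IsProper p) (hdim : topologicalKrullDim C = 1)
    (hg : @Curv2.genus k _ C ⟨p⟩ = 1)
    (hdeg : @Curv2.deg k _ C ⟨p⟩ ((Scheme.Modules.pullback j).obj (Twist.twistProjSpace 4 k 1)) 1 = 4)
    (hfj : hypIdeal f ≤ j.ker) : ∃ q ∈ Sol f, j.ker = cI q := by
  letI : C.Over (Spec (CommRingCat.of k)) := ⟨p⟩
  have hpr' : IsProper (C ↘ Spec (CommRingCat.of k)) := hpr
  have hE0 : E j 0 = 0 := by
    have h1 := genus_of_E j p hj hpr hdim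
    rw [hg] at h1
    rw [h1]
    norm_num
  have hE : ∀ m : ℕ, E j m = 4 * m := fun m => by
    rw [E_nat j p hj hpr hdim m, hdeg, hE0]
    ring
  have hr4 : Module.finrank k (Coh.HH C ((Scheme.Modules.pullback j).obj
      (Twist.twistProjSpace 4 k ((1 : ℕ) : ℤ))) 0) = 1 * 4 :=
    finrank_twist j p hj hpr hdim hg (d := 4) (by norm_num) hdeg 1 (by norm_num)
  have hr8 : Module.finrank k (Coh.HH C ((Scheme.Modules.pullback j).obj
      (Twist.twistProjSpace 4 k ((2 : ℕ) : ℤ))) 0) = 2 * 4 :=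
    finrank_twist j p hj hpr hdim hg (d := 4) (by norm_num) hdeg 2 (by norm_num)
  have hf4 : Module.Finite k (Coh.HH C ((Scheme.Modules.pullback j).obj
      (Twist.twistProjSpace 4 k ((1 : ℕ) : ℤ))) 0) := Module.finite_of_finrank_pos (by rw [hr4]; norm_num)
  have hf8 : Module.Finite k (Coh.HH C ((Scheme.Modules.pullback j).obj
      (Twist.twistProjSpace 4 k ((2 : ℕ) : ℤ))) 0) := Module.finite_of_finrank_pos (by rw [hr8]; norm_num)
  -- the linear form
  obtain ⟨l, hl0, hlσ⟩ := exists_ker (K330.FormSec.formSec (d := 1) C j hj) (by rw [hr4])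
    (by rw [K568.GenericForms.finrank_form]; decide)
  have hlP : l.1 ∈ PP j := mem_of_formSec j hj l hlσ
  have hl0' : l.1 ≠ 0 := fun h => hl0 (Subtype.ext h)
  obtain ⟨v, rfl⟩ : ∃ v, lin v = l := ⟨_, lin_eq' l⟩
  obtain ⟨K⟩ := exists_kill (lin v).1 (lin v).2 hl0'
  have hφ : ∀ l' : Form 4 k 1, l'.1 ∈ PP j → K.φ l'.1 = 0 := fun l' hl' =>
    φ_eq_zero f hf j hfj hE (lin v) l' hl0' K ((mem_iff j _).1 hlP) ((mem_iff j _).1 hl')
  -- the quadratic forms
  let Φ : Form 4 k 2 →ₗ[k] Form 3 k 2 := K.φ.toLinearMap.restrict (fun g hg => K.homφ hg)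
  have hΦ : Function.Surjective Φ := fun g => ⟨⟨K.ψ g.1, K.homψ g.2⟩, Subtype.ext (K.φψ g.1)⟩
  obtain ⟨Q, hQσ, hQ⟩ := exists_pair' (K330.FormSec.formSec (d := 2) C j hj) Φ (by rw [hr8])
    (by rw [K568.GenericForms.finrank_form]; decide) (by rw [K568.GenericForms.finrank_form]; decide) hΦ
  choose M hM using fun c => quad_eq (Q c)
  obtain rfl : (fun c => quad (M c)) = Q := funext hM
  have hQP : ∀ c, (quad (M c)).1 ∈ PP j := fun c => mem_of_formSec j hj _ (hQσ c)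
  have hPp : (PP j).IsPrime := (j (genericPoint C)).isPrime
  have hP' : ((PP j).comap (K.ψ : MvPolynomial (Fin 4) k →+* MvPolynomial (Fin 5) k)).IsPrime :=
    Ideal.comap_isPrime _ _
  have hlin : ∀ m : MvPolynomial (Fin 4) k, m.IsHomogeneous 1 →
      m ∈ (PP j).comap (K.ψ : MvPolynomial (Fin 4) k →+* MvPolynomial (Fin 5) k) → m = 0 := fun m hm hmP => by
    have h1 := hφ ⟨K.ψ m, K.homψ hm⟩ hmP
    rw [← K.φψ m]
    exact h1
  have hψφ : ∀ c, K.φ (quad (M c)).1 ∈ (PP j).comap (K.ψ : MvPolynomial (Fin 4) k →+* MvPolynomial (Fin 5) k) := by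
    intro c
    have h1 : (quad (M c)).1 - K.ψ (K.φ (quad (M c)).1) ∈ PP j :=
      (Ideal.span_le.2 (Set.singleton_subset_iff.2 hlP)) (K.sub_mem _)
    have h2 := (PP j).sub_mem (hQP c) h1
    rw [sub_sub_cancel] at h2
    exact h2
  have hirr : Irreducible (K.φ (quad (M 0)).1) :=
    K33.Quadrics.irreducible_of ((PP j).comap (K.ψ : MvPolynomial (Fin 4) k →+* MvPolynomial (Fin 5) k)) hlin
      (K.homφ (quad (M 0)).2) (fun h => hQ.ne_zero 0 (Subtype.ext h)) (hψφ 0)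
  let q₀ : Data k := (![v, 0, 0], ![0, M 0, M 1])
  have hreg : CIReg.IsReg (Gq q₀) := by
    refine isReg_three (Gq q₀) K hl0' hirr.ne_zero fun g hg => ?_
    rw [Ideal.mem_span_singleton] at hg ⊢
    exact (hirr.prime.dvd_or_dvd hg).resolve_left (K33.Quadrics.not_dvd _ hQ)
  have hle : ciIdeal (Gq q₀) ≤ j.ker := by
    refine iSup_le fun c => ?_
    fin_cases c
    · exact (mem_iff j (lin v)).1 hlP
    · exact (mem_iff j (quad (M 0))).1 (hQP 0)
    · exact (mem_iff j (quad (M 1))).1 (hQP 1)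
  have hker : j.ker = ciIdeal (Gq q₀) := ker_eq_of_E (by norm_num) _ _ hreg j hle fun m => by
    rw [hE, ← cI_eq, E_cI q₀ hreg]
  -- saturation
  obtain ⟨i, hi⟩ : ∃ i : Fin 5, (MvPolynomial.X i : MvPolynomial (Fin 5) k) ∉ PP j :=
    Groth.Agent.PerfB.ProjSpaceCover.exists_mem_basicOpen_X 4 k (j (genericPoint C))
  let G := G4 (lin v) (quad (M 0)) (quad (M 1)) ⟨MvPolynomial.X i, LefPen.X_mem 4 k i⟩
  have hci : ciIdeal (fun c : Fin 3 => G c.castSucc) = j.ker := by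
    rw [hker]
    apply le_antisymm
    · refine iSup_le fun c => ?_
      fin_cases c
      · exact le_iSup (fun c => hypIdeal (Gq q₀ c)) 0
      · exact le_iSup (fun c => hypIdeal (Gq q₀ c)) 1
      · exact le_iSup (fun c => hypIdeal (Gq q₀ c)) 2
    · refine iSup_le fun c => ?_
      fin_cases c
      · exact le_iSup (fun c : Fin 3 => hypIdeal (G c.castSucc)) 0
      · exact le_iSup (fun c : Fin 3 => hypIdeal (G c.castSucc)) 1
      · exact le_iSup (fun c : Fin 3 => hypIdeal (G c.castSucc)) 2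
  have hiso : ∃ e : C ≅ (ciIdeal (fun c : Fin 3 => G c.castSucc)).subscheme, True := by
    rw [hci]
    exact ⟨asIso j.toImage, trivial⟩
  obtain ⟨e, -⟩ := hiso
  have hint : IsIntegral (ciIdeal (fun c : Fin 3 => G c.castSucc)).subscheme := by
    have : Nonempty (ciIdeal (fun c : Fin 3 => G c.castSucc)).subscheme := ⟨e.hom (genericPoint C)⟩
    exact isIntegral_of_isOpenImmersion e.inv
  have hd : topologicalKrullDim (ciIdeal (fun c : Fin 3 => G c.castSucc)).subscheme = 1 := by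
    rw [← hdim]
    exact ((Scheme.homeoOfIso e).isHomeomorph.topologicalKrullDim_eq).symm
  have hne : (hypIdeal (G (Fin.last 3))).comap (yι fun c : Fin 3 => G c.castSucc) ≠ ⊥ := by
    intro h
    apply hi
    rw [← le_bot_iff, ← Scheme.IdealSheafData.le_map_iff_comap_le, Scheme.IdealSheafData.map_bot] at h
    have h1 : (yι fun c : Fin 3 => G c.castSucc).ker = ciIdeal (fun c : Fin 3 => G c.castSucc) :=
      Scheme.IdealSheafData.ker_subschemeι _
    rw [h1, hci] at h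
    exact (mem_iff j _).2 h
  have hreg4 : CIReg.IsReg G := SatCI.isReg_of_curve G rfl (by intro c; fin_cases c <;> simp [d4]) hd hne
  have hmem := SatCI.mem_span_of_le G hreg4 i rfl f (by rw [hci]; exact hfj)
  obtain ⟨e', he', -, hsum⟩ := Groth.Agent.S11223.exists_homog_rep k 5 3 (fun c => (G c.castSucc).1)
    (fun c => d4 c.castSucc) (fun c => (G c.castSucc).2) f.1 3 f.2 hmem
  obtain ⟨M₀, hM₀⟩ := quad_eq (⟨e' 0, he' 0⟩ : Form 4 k 2)
  obtain ⟨v₁, hv₁⟩ : ∃ v₁, lin v₁ = (⟨e' 1, he' 1⟩ : Form 4 k 1) := ⟨_, lin_eq' _⟩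
  obtain ⟨v₂, hv₂⟩ : ∃ v₂, lin v₂ = (⟨e' 2, he' 2⟩ : Form 4 k 1) := ⟨_, lin_eq' _⟩
  have hf' : f.1 = (lin v).1 * (quad M₀).1 + (lin v₁).1 * (quad (M 0)).1 + (lin v₂).1 * (quad (M 1)).1 := by
    rw [hM₀, hv₁, hv₂, hsum, Fin.sum_univ_three]
    change e' 0 * (lin v).1 + e' 1 * (quad (M 0)).1 + e' 2 * (quad (M 1)).1 = _
    ring
  refine ⟨(![v, v₁, v₂], ![M₀, M 0, M 1]), ⟨?_, ?_⟩, ?_⟩
  · by_contra hc
    refine false_of_three f hf ![v, v₁, v₂] hc fun x hx => ?_
    rw [hf', map_add, map_add, map_mul, map_mul, map_mul, eval_lin, eval_lin, eval_lin]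
    have h0 := hx 0
    have h1 := hx 1
    have h2 := hx 2
    change ∑ i, v i * x i = 0 at h0
    change ∑ i, v₁ i * x i = 0 at h1
    change ∑ i, v₂ i * x i = 0 at h2
    rw [h0, h1, h2]
    ring
  · rw [Fin.sum_univ_three]
    exact hf'
  · rw [hker, ← cI_eq]
    rfl

/-- **Classification of elliptic quartics** on a smooth cubic threefold. -/
theorem exists_sol [CharZero k] (f : LefPen.Form 4 k 3) (hf : f ≠ 0) [Smooth (ps f)]
    (C : Scheme.{u}) (p : C ⟶ Spec (CommRingCat.of k)) (i : C ⟶ Xf f) (hcl : IsClosedImmersion i)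
    (hip : i ≫ ps f = p) (hsm : Smooth p) (hpr : IsProper p) (hint : IsIntegral C)
    (hdim : topologicalKrullDim C = 1) (hg : @Curv2.genus k _ C ⟨p⟩ = 1)
    (hdeg : @Curv2.deg k _ C ⟨p⟩ ((Scheme.Modules.pullback (i ≫ emb f)).obj
      (Twist.twistProjSpace 4 k 1)) 1 = 4) :
    ∃ q ∈ Sol f, (i ≫ emb f).ker = cI q := by
  refine aux f hf (i ≫ emb f) p (by rw [Category.assoc]; exact hip) hpr hdim hg hdeg ?_
  have h1 : (emb f).ker = hypIdeal f := Scheme.IdealSheafData.ker_subschemeι _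
  rw [← h1]
  exact Scheme.Hom.le_ker_comp _ _

end Main

end K419.QuartClass
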