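import Groth.Agent.Fano.K419.QuintPts
import Groth.Agent.Fano.K419.QuartClass
import Groth.Agent.Curves.K385.CurveFF
import Groth.Agent.S10994
import Groth.Agent.Lefpen.H705.PointCoord
import Groth.Agent.Fano.K255.PfDef

/-!
# Coordinates on an elliptic normal quintic

* `exists_coords`: the statement `K255.PlanE.exists_coords`.
-/

set_option autoImplicit false
universe u
open CategoryTheory CategoryTheory.Limits AlgebraicGeometry TopologicalSpace Opposite

namespace K419.QuintGeo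

open LefPen Groth.Agent Groth.Agent.K385.CurveFF Groth.Agent.MiscA.CurvePlaces
open Groth.Agent.Lefpen.H705.PointCoord Groth.Agent.Lefpen.H705.ChartPoly Groth.Agent.Sga5
open Groth.Agent.Lefpen.H705.HypIdeal

variable {k : Type u} [Field k]

section FF

variable {X : Scheme.{u}} [IsIntegral X] (p : X ⟶ Spec (CommRingCat.of k))

theorem preimage_eq : Spec.preimage (genericPt X ≫ p) = CommRingCat.ofHom (toStalk k p (genericPoint X)) := by
  apply Spec.map_injective
  rw [Spec.map_preimage]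
  have h1 : CommRingCat.ofHom (toStalk k p (genericPoint X)) =
      (Scheme.ΓSpecIso (CommRingCat.of k)).inv ≫ p.appTop ≫ X.presheaf.germ ⊤ (genericPoint X) trivial := rfl
  rw [h1, Spec.map_comp, Spec.map_comp, ← Scheme.fromSpecStalk_toSpecΓ, Category.assoc, Category.assoc,
    ← Scheme.toSpecΓ_naturality_assoc]
  have h2 : (Spec (CommRingCat.of k)).toSpecΓ ≫ Spec.map (Scheme.ΓSpecIso (CommRingCat.of k)).inv = 𝟙 _ := by
    simp
  rw [h2, Category.comp_id]
  rfl

theorem algebraMap_eq (c : k) :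
    (letI := algFF p; algebraMap k X.functionField c) = toStalk k p (genericPoint X) c := by
  have := congrArg (fun φ => φ.hom c) (preimage_eq p)
  exact this

end FF

section Val

variable {n : ℕ} {C : Scheme.{u}} (j : C ⟶ CohB1.ProjSpace n k) [IsIntegral C] (i₀ : Fin (n + 1))
  (h0 : j (genericPoint C) ∈ LefPen.chart n k i₀)

/-- The value of the function `F / T_{i₀}^{deg F}` in the function field. -/
noncomputable def val : MvPolynomial (Fin (n + 1)) k →+* C.functionField :=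
  (coordHom j i₀ (genericPoint C) h0).comp (ProjChart.dehom n k i₀)

theorem val_C (c : k) : val j i₀ h0 (MvPolynomial.C c) =
    toStalk k (j ≫ CohB1.ProjSpace.toSpec n k) (genericPoint C) c := by
  rw [val, RingHom.comp_apply, ProjChart.dehom_C, coordHom_C]

theorem val_self : val j i₀ h0 (MvPolynomial.X i₀) = 1 := by
  rw [val, RingHom.comp_apply, ProjChart.dehom_X_self, map_one]

theorem val_form {d : ℕ} (F : Form n k d) : val j i₀ h0 F.1 = chartStalk j i₀ (genericPoint C) h0 (dehom F i₀) := by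
  rw [dehom_eq]; rfl

theorem val_eq_zero_iff {d : ℕ} (F : Form n k d) :
    val j i₀ h0 F.1 = 0 ↔ F.1 ∈ QuartClass.PP j := by
  rw [val_form]
  have h1 := Lefpen.H716.CIGeom.mem_basicOpen_dehom_iff F i₀ (j (genericPoint C)) h0
  have h2 : j (genericPoint C) ∈ Lefpen.H716.CIGeom.Dplus F ↔ F.1 ∉ QuartClass.PP j :=
    Proj.mem_basicOpen (CohB1.polyGrading n k) F.1 (j (genericPoint C))
  rw [← not_iff_not, ← ne_eq, ← h2, ← h1, Scheme.mem_basicOpen _ _ _ h0]
  have h3 : IsUnit (chartStalk j i₀ (genericPoint C) h0 (dehom F i₀)) ↔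
      IsUnit ((CohB1.ProjSpace n k).presheaf.germ (chart n k i₀) (j (genericPoint C)) h0 (dehom F i₀)) :=
    isUnit_map_iff (j.stalkMap (genericPoint C)).hom _
  rw [← h3]
  exact isUnit_iff_ne_zero.symm

theorem aeval_eq (p : C ⟶ Spec (CommRingCat.of k)) (hj : j ≫ CohB1.ProjSpace.toSpec n k = p)
    (F : MvPolynomial (Fin (n + 1)) k) :
    (letI := algFF p; MvPolynomial.aeval (fun i => val j i₀ h0 (MvPolynomial.X i)) F) = val j i₀ h0 F := by
  letI := algFF p
  have : (MvPolynomial.aeval (fun i => val j i₀ h0 (MvPolynomial.X i)) :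
      MvPolynomial (Fin (n + 1)) k →ₐ[k] C.functionField).toRingHom = val j i₀ h0 := by
    apply MvPolynomial.ringHom_ext
    · intro c
      rw [val_C]
      simp only [hj]
      refine Eq.trans ?_ (algebraMap_eq p c)
      exact MvPolynomial.aeval_C _ _
    · intro i
      exact MvPolynomial.aeval_X _ _
  exact congrArg (fun φ => φ F) this

theorem coordHom_mem (p : C ⟶ Spec (CommRingCat.of k)) (hj : j ≫ CohB1.ProjSpace.toSpec n k = p)
    (q : MvPolynomial (Fin n) k) :
    letI := algFF p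
    coordHom j i₀ (genericPoint C) h0 q ∈
      IntermediateField.adjoin k (Set.range fun i => val j i₀ h0 (MvPolynomial.X i)) := by
  letI := algFF p
  induction q using MvPolynomial.induction_on with
  | C c =>
    rw [coordHom_C]
    simp only [hj]
    rw [← algebraMap_eq p c]
    exact IntermediateField.algebraMap_mem _ c
  | add q r hq hr =>
    rw [map_add]
    exact add_mem hq hr
  | mul_X q l hq =>
    rw [map_mul]
    refine mul_mem hq (IntermediateField.subset_adjoin k _ ⟨i₀.succAbove l, ?_⟩)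
    change val j i₀ h0 (MvPolynomial.X (i₀.succAbove l)) = _
    rw [val, RingHom.comp_apply, ProjChart.dehom_X]

theorem adjoin_eq_top [IsClosedImmersion j] (p : C ⟶ Spec (CommRingCat.of k))
    (hj : j ≫ CohB1.ProjSpace.toSpec n k = p) :
    letI := algFF p
    IntermediateField.adjoin k (Set.range fun i => val j i₀ h0 (MvPolynomial.X i)) = ⊤ := by
  letI := algFF p
  have hU : IsAffineOpen (j ⁻¹ᵁ chart n k i₀) := (isAffineOpen_chart i₀).preimage j
  have hne : Nonempty (j ⁻¹ᵁ chart n k i₀) := ⟨⟨genericPoint C, h0⟩⟩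
  have h2 : ∀ a : Γ(C, j ⁻¹ᵁ chart n k i₀), algebraMap Γ(C, j ⁻¹ᵁ chart n k i₀) C.functionField a ∈
      IntermediateField.adjoin k (Set.range fun i => val j i₀ h0 (MvPolynomial.X i)) := by
    intro a
    obtain ⟨b, rfl⟩ := (j.app_surjective (chart n k i₀) (isAffineOpen_chart i₀) :
      Function.Surjective (j.app (chart n k i₀))) a
    obtain ⟨q, rfl⟩ := (polyToChart_bijective i₀).2 b
    have h3 := coordHom_mem j i₀ h0 p hj q
    rw [coordHom_eq] at h3
    have h4 : chartStalk j i₀ (genericPoint C) h0 (polyToChart i₀ q) =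
        algebraMap Γ(C, j ⁻¹ᵁ chart n k i₀) C.functionField (j.app (chart n k i₀) (polyToChart i₀ q)) :=
      Scheme.Hom.germ_stalkMap_apply j (chart n k i₀) (genericPoint C) h0 (polyToChart i₀ q)
    rw [← h4]
    exact h3
  rw [eq_top_iff]
  intro z _
  have hfr := functionField_isFractionRing_of_isAffineOpen C (j ⁻¹ᵁ chart n k i₀) hU
  obtain ⟨a, b, hb, rfl⟩ := IsFractionRing.div_surjective (A := Γ(C, j ⁻¹ᵁ chart n k i₀)) z
  exact div_mem (h2 a) (h2 b)

end Val

section Alg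

variable {K : Type u} [Field K] [Algebra k K]

theorem hgen_of {ι : Type*} (ξ : ι → K) (i₀ : ι) (h1 : ξ i₀ = 1)
    (htop : IntermediateField.adjoin k (Set.range ξ) = ⊤) (a : K) (ha : a ≠ 0) :
    IntermediateField.adjoin k ((fun x => x / a) '' (Submodule.span k (Set.range ξ) : Set K)) = ⊤ := by
  rw [eq_top_iff, ← htop, IntermediateField.adjoin_le_iff]
  rintro _ ⟨i, rfl⟩
  have hm : ∀ i, ξ i / a ∈ IntermediateField.adjoin k ((fun x => x / a) '' (Submodule.span k (Set.range ξ) : Set K)) :=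
    fun i => IntermediateField.subset_adjoin k _ ⟨ξ i, Submodule.subset_span ⟨i, rfl⟩, rfl⟩
  have h2 : ξ i = (ξ i / a) / (ξ i₀ / a) := by
    rw [h1]; field_simp
  rw [h2]
  exact div_mem (hm i) (hm i₀)

theorem finrank_le_of_ker {V H M : Type*} [AddCommGroup V] [Module k V] [AddCommGroup H] [Module k H]
    [AddCommGroup M] [Module k M] [Module.Finite k V] [Module.Finite k H] (σ : V →ₗ[k] H) (τ : V →ₗ[k] M)
    (h : ∀ v, σ v = 0 → τ v = 0) : Module.finrank k (LinearMap.range τ) ≤ Module.finrank k H := by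
  have h1 := σ.finrank_range_add_finrank_ker
  have h2 := τ.finrank_range_add_finrank_ker
  have h3 : Module.finrank k (LinearMap.ker σ) ≤ Module.finrank k (LinearMap.ker τ) :=
    Submodule.finrank_mono fun v hv => h v hv
  have h4 := Submodule.finrank_le (LinearMap.range σ)
  omega

end Alg

section Main

variable [IsAlgClosed k]

theorem adjoin_ne_top {C : Scheme.{u}} (p : C ⟶ Spec (CommRingCat.of k)) [IsIntegral C] [IsProper p] [Smooth p]
    (hdim : topologicalKrullDim C = 1) (hg : @Curv2.genus k _ C ⟨p⟩ = 1) :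
    letI := algFF p
    ∀ t : C.functionField, IntermediateField.adjoin k {t} ≠ ⊤ := by
  letI := algFF p
  intro t ht
  have hK := isFunctionField p hdim
  have h1 := ((Groth.Agent.S10994.result k C.functionField hK).2 ⟨t, ht⟩).1
  have h2 := genus_eq p hdim
  have h3 : FunFld.genus k C.functionField = 1 := h2.trans hg
  rw [h1] at h3
  exact zero_ne_one h3

theorem exists_coords_aux {C : Scheme.{u}} (j : C ⟶ CohB1.ProjSpace 4 k) [IsClosedImmersion j] [IsIntegral C]
    (p : C ⟶ Spec (CommRingCat.of k)) (hj : j ≫ CohB1.ProjSpace.toSpec 4 k = p) (hsm : Smooth p) (hpr : IsProper p)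
    (hdim : topologicalKrullDim C = 1) (hg : @Curv2.genus k _ C ⟨p⟩ = 1)
    (hdeg : @Curv2.deg k _ C ⟨p⟩ ((Scheme.Modules.pullback j).obj (Twist.twistProjSpace 4 k 1)) 1 = 5)
    (hnd : K255.Pf.NonDeg j.ker) :
    ∃ (K : Type u) (_ : Field K) (_ : Algebra k K) (ξ : Fin 5 → K) (τ y w : K),
      (∀ (d : ℕ) (F : LefPen.Form 4 k d), LefPen.hypIdeal F ≤ j.ker ↔ MvPolynomial.aeval ξ F.1 = 0) ∧
      LinearIndependent k ξ ∧
      Submodule.span k (Set.range ξ) = Submodule.span k {y, τ * y, τ ^ 2 * y, w, τ * w} ∧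
      (∀ P R : Polynomial k, Polynomial.aeval τ P * y + Polynomial.aeval τ R * w = 0 → P = 0 ∧ R = 0) ∧
      (∃ A₃ A₂ A₁ : Polynomial k, A₃.natDegree ≤ 3 ∧ A₂.natDegree ≤ 2 ∧ A₁.natDegree ≤ 1 ∧
        (A₃ ≠ 0 ∨ A₂ ≠ 0 ∨ A₁ ≠ 0) ∧
        y ^ 2 * Polynomial.aeval τ A₃ + y * w * Polynomial.aeval τ A₂ + w ^ 2 * Polynomial.aeval τ A₁ = 0) ∧
      (∀ B₂ B₁ B₀ : Polynomial k, B₂.natDegree ≤ 2 → B₁.natDegree ≤ 1 → B₀.natDegree ≤ 0 →
        y ^ 2 * Polynomial.aeval τ B₂ + y * w * Polynomial.aeval τ B₁ + w ^ 2 * Polynomial.aeval τ B₀ = 0 →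
        B₂ = 0 ∧ B₁ = 0 ∧ B₀ = 0) := by
  letI : C.Over (Spec (CommRingCat.of k)) := ⟨p⟩
  have hpr' : IsProper (C ↘ Spec (CommRingCat.of k)) := hpr
  letI := algFF p
  obtain ⟨i₀, hi₀⟩ : ∃ i : Fin 5, (MvPolynomial.X i : MvPolynomial (Fin 5) k) ∉ QuartClass.PP j :=
    Groth.Agent.PerfB.ProjSpaceCover.exists_mem_basicOpen_X 4 k (j (genericPoint C))
  have h0 : j (genericPoint C) ∈ LefPen.chart 4 k i₀ := hi₀
  let ξ : Fin 5 → C.functionField := fun i => val j i₀ h0 (MvPolynomial.X i)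
  have hξ1 : ξ i₀ = 1 := val_self j i₀ h0
  have hae : ∀ F, MvPolynomial.aeval ξ F = val j i₀ h0 F := aeval_eq j i₀ h0 p hj
  have hF : ∀ (d : ℕ) (F : LefPen.Form 4 k d), LefPen.hypIdeal F ≤ j.ker ↔ MvPolynomial.aeval ξ F.1 = 0 :=
    fun d F => by rw [hae, val_eq_zero_iff, QuartClass.mem_iff]
  have hξ : LinearIndependent k ξ := by
    rw [Fintype.linearIndependent_iff]
    intro g hg
    have h1 : MvPolynomial.aeval ξ (Groth.Agent.Fano.K714.Quart.lin g).1 = 0 := by
      rw [← hg]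
      simp [Groth.Agent.Fano.K714.Quart.lin]
    have h2 : Groth.Agent.Fano.K714.Quart.lin g = 0 := by
      by_contra h2
      exact hnd _ h2 ((hF 1 _).2 h1)
    intro i
    have h3 := Groth.Agent.Fano.K714.Quart.eval_lin g (Pi.single i 1)
    rw [h2, Finset.sum_eq_single i (fun b _ hb => by rw [Pi.single_eq_of_ne hb, mul_zero])
      (fun h => absurd (Finset.mem_univ i) h), Pi.single_eq_same, mul_one] at h3
    exact h3.symm
  have hr10 : Module.finrank k (Coh.HH C ((Scheme.Modules.pullback j).obj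
      (Twist.twistProjSpace 4 k ((2 : ℕ) : ℤ))) 0) = 2 * 5 :=
    CurveE.finrank_twist j p hj hpr hdim hg (d := 5) (by norm_num) hdeg 2 (by norm_num)
  have hf10 : Module.Finite k (Coh.HH C ((Scheme.Modules.pullback j).obj
      (Twist.twistProjSpace 4 k ((2 : ℕ) : ℤ))) 0) := Module.finite_of_finrank_pos (by rw [hr10]; norm_num)
  have hfV : Module.Finite k (LefPen.Form 4 k 2) := Module.finite_of_finrank_pos (by
    rw [K568.GenericForms.finrank_form]; decide)
  let ev2 : LefPen.Form 4 k 2 →ₗ[k] C.functionField :=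
    (MvPolynomial.aeval ξ : MvPolynomial (Fin 5) k →ₐ[k] C.functionField).toLinearMap.comp
      (Submodule.subtype _)
  have hr := finrank_le_of_ker (K330.FormSec.formSec (d := 2) C j hj) ev2 fun F h => by
    have h1 : F.1 ∈ QuartClass.PP j := QuartClass.mem_of_formSec j hj F h
    rw [← val_eq_zero_iff j i₀ h0] at h1
    exact (hae F.1).trans h1
  have h10 : Module.finrank k ↥(Submodule.span k (Set.range ξ) * Submodule.span k (Set.range ξ)) ≤ 10 := by
    refine le_trans (Submodule.finrank_mono ?_) (hr.trans_eq hr10)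
    rw [Submodule.span_mul_span, Submodule.span_le]
    rintro _ ⟨_, ⟨a, rfl⟩, _, ⟨b, rfl⟩, rfl⟩
    refine ⟨⟨MvPolynomial.X a * MvPolynomial.X b, (MvPolynomial.mem_homogeneousSubmodule _ _).mpr
      ((MvPolynomial.isHomogeneous_X k a).mul (MvPolynomial.isHomogeneous_X k b))⟩, ?_⟩
    change MvPolynomial.aeval ξ (MvPolynomial.X a * MvPolynomial.X b) = _
    rw [map_mul, MvPolynomial.aeval_X, MvPolynomial.aeval_X]
  have htop : IntermediateField.adjoin k (Set.range ξ) = ⊤ := adjoin_eq_top j i₀ h0 p hj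
  obtain ⟨τ, y, w, hsp, h1, h2, h3⟩ := QuintPts.coords ξ hξ h10 (adjoin_ne_top p hdim hg)
    fun a _ ha => hgen_of ξ i₀ hξ1 htop a ha
  exact ⟨C.functionField, inferInstance, inferInstance, ξ, τ, y, w, hF, hξ, hsp, h1, h2, h3⟩

open K255.Pf Groth.Agent.Fano.K714.Rat Groth.Agent.Fano.K714.Quart in
/-- **Coordinates on an elliptic normal quintic**. -/
theorem exists_coords (f : LefPen.Form 4 k 3)
    (C : Scheme.{u}) (p : C ⟶ Spec (CommRingCat.of k)) (i : C ⟶ Xf f) (hcl : IsClosedImmersion i)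
    (hip : i ≫ ps f = p) (hsm : Smooth p) (hpr : IsProper p) (hint : IsIntegral C)
    (hdim : topologicalKrullDim C = 1) (hg : @Curv2.genus k _ C ⟨p⟩ = 1)
    (hdeg : @Curv2.deg k _ C ⟨p⟩ ((Scheme.Modules.pullback (i ≫ emb f)).obj
      (Twist.twistProjSpace 4 k 1)) 1 = 5) (hnd : NonDeg (i ≫ emb f).ker) :
    ∃ (K : Type u) (_ : Field K) (_ : Algebra k K) (ξ : Fin 5 → K) (τ y w : K),
      (∀ (d : ℕ) (F : LefPen.Form 4 k d), LefPen.hypIdeal F ≤ (i ≫ emb f).ker ↔ MvPolynomial.aeval ξ F.1 = 0) ∧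
      LinearIndependent k ξ ∧
      Submodule.span k (Set.range ξ) = Submodule.span k {y, τ * y, τ ^ 2 * y, w, τ * w} ∧
      (∀ P R : Polynomial k, Polynomial.aeval τ P * y + Polynomial.aeval τ R * w = 0 → P = 0 ∧ R = 0) ∧
      (∃ A₃ A₂ A₁ : Polynomial k, A₃.natDegree ≤ 3 ∧ A₂.natDegree ≤ 2 ∧ A₁.natDegree ≤ 1 ∧
        (A₃ ≠ 0 ∨ A₂ ≠ 0 ∨ A₁ ≠ 0) ∧
        y ^ 2 * Polynomial.aeval τ A₃ + y * w * Polynomial.aeval τ A₂ + w ^ 2 * Polynomial.aeval τ A₁ = 0) ∧
      (∀ B₂ B₁ B₀ : Polynomial k, B₂.natDegree ≤ 2 → B₁.natDegree ≤ 1 → B₀.natDegree ≤ 0 →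
        y ^ 2 * Polynomial.aeval τ B₂ + y * w * Polynomial.aeval τ B₁ + w ^ 2 * Polynomial.aeval τ B₀ = 0 →
        B₂ = 0 ∧ B₁ = 0 ∧ B₀ = 0) :=
  exists_coords_aux (i ≫ emb f) p (by rw [Category.assoc]; exact hip) hsm hpr hdim hg hdeg hnd

end Main

end K419.QuintGeo
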