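import Groth.Agent.Fano.K783.SyzHom
import Groth.Agent.Nrm16.K137.Basic

/-!
# The map `O_C(-d) ⟶ conormal i` given by an equation

`i : C ⟶ X`, `e : X ⟶ P^n`, `G` a form of degree `d` vanishing on `C`: the map `(i ≫ e)^* O(-d) ⟶ conormal i`
which sends the pulled back generator of `O(-d)` on the chart `m` to the class of `G / x_m^d` (`exists_lam`).
-/

set_option autoImplicit false
universe u
open CategoryTheory CategoryTheory.Limits AlgebraicGeometry TopologicalSpace Opposite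

namespace K419.ThetaMap

open LefPen K715.Geo K715.Gens K715.Res K560.FormMaps
open Groth.Agent Groth.Agent.Lefpen.H705.HypIdeal Groth.Agent.Lefpen.H705.ChartPoly
open Groth.Agent.Fdesc.LocGen

variable {n : ℕ} {k : Type u} [Field k]

/-- The section of the ideal given by an equation. -/
theorem exists_la {C : Scheme.{u}} (j : C ⟶ CohB1.ProjSpace n k) {d : ℕ} (G : Form n k d)
    (h : hypIdeal G ≤ j.ker) :
    ∃ la : OO n k (-(d : ℤ)) ⟶ ClSub.idealMod j.ker,
      la ≫ ClSub.idealModι j.ker = mulO G (-(d : ℤ)) (by omega) := by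
  obtain ⟨a, -, ha⟩ := K560.ConLift.exists_hyp G
  have h1 : (hypIdeal G).subschemeι.ker ≤ j.ker := by
    rw [Scheme.IdealSheafData.ker_subschemeι]; exact h
  have h2 : ClSub.idealModι (hypIdeal G).subschemeι.ker ≫ ClSub.toSubscheme j.ker = 0 := by
    have h3 : ClSub.idealModι (hypIdeal G).subschemeι.ker ≫ ClSub.toSubscheme (hypIdeal G).subschemeι.ker = 0 :=
      kernel.condition _
    rw [← Sga2.LefPow644.toSubscheme_quotMap h1, ← Category.assoc, h3, zero_comp]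
  obtain ⟨b, hb⟩ : ∃ b : ClSub.idealMod (hypIdeal G).subschemeι.ker ⟶ ClSub.idealMod j.ker,
      b ≫ ClSub.idealModι j.ker = ClSub.idealModι (hypIdeal G).subschemeι.ker :=
    ⟨kernel.lift _ _ h2, kernel.lift_ι _ _ _⟩
  exact ⟨a ≫ b, by rw [Category.assoc, hb, ha]⟩

theorem res_self {C : Scheme.{u}} (M : C.Modules) (V : C.Opens) (h : V ≤ V) (x : Γ(M, V)) :
    M.presheaf.map (homOfLE h).op x = x := by
  have h1 : (homOfLE h).op = 𝟙 (op V) := rfl
  rw [h1, CategoryTheory.Functor.map_id]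
  rfl

theorem exists_lam {C X : Scheme.{u}} (i : C ⟶ X) (e : X ⟶ CohB1.ProjSpace n k) [QuasiCompact i] [QuasiCompact e]
    {d : ℕ} (G : Form n k d) (h : hypIdeal G ≤ (i ≫ e).ker) :
    ∃ lam : (Scheme.Modules.pullback (i ≫ e)).obj (OO n k (-(d : ℤ))) ⟶ Omega.conormal i,
      ∀ (m : Fin (n + 1)) (c : Γ(ClSub.idealMod i.ker, e ⁻¹ᵁ chart n k m)),
        (ClSub.idealModι i.ker).app (e ⁻¹ᵁ chart n k m) c = e.app (chart n k m) (rho m le_rfl G.1) →
        lam.app ((i ≫ e) ⁻¹ᵁ chart n k m) (pullSec (i ≫ e) (eg m (-(d : ℤ)) le_rfl)) = pullSec i c := by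
  obtain ⟨la, hla⟩ := exists_la (i ≫ e) G h
  have w : i ≫ e = 𝟙 _ ≫ (i ≫ e) := (Category.id_comp _).symm
  obtain ⟨φ, hφ⟩ : ∃ φ, OmegaSh.IsConormalMap i (i ≫ e) e (𝟙 _) φ := ⟨_, K583.ConMap.isConormalMap w⟩
  refine ⟨(Scheme.Modules.pullback (i ≫ e)).map la ≫ (Scheme.Modules.pullbackId C).inv.app
      (Omega.conormal (i ≫ e)) ≫ φ, fun m c hc => ?_⟩
  have h1 := hφ.2 (chart n k m) (la.app _ (eg m (-(d : ℤ)) le_rfl)) c (by
    rw [OmegaSh.idealSect_apply, OmegaSh.idealSect_apply]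
    have h2 : (ClSub.idealModι (i ≫ e).ker).app (chart n k m) (la.app _ (eg m (-(d : ℤ)) le_rfl)) =
        ofFun (rho m le_rfl G.1) := by
      rw [← mulO_eg1 G (-(d : ℤ)) (by omega) m le_rfl, ← hla]
      rfl
    exact hc.trans (congrArg (fun z => e.app (chart n k m) (OmegaSh.fnSect _ _ z)) h2).symm)
    ((i ≫ e) ⁻¹ᵁ chart n k m) le_rfl le_rfl
  have h3 := (res_self (Omega.conormal i) _ _ _).symm.trans (h1.trans (res_self (Omega.conormal i) _ _ _))
  refine Eq.trans ?_ h3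
  change φ.app _ (((Scheme.Modules.pullbackId C).inv.app (Omega.conormal (i ≫ e))).app _
    (((Scheme.Modules.pullback (i ≫ e)).map la).app _ (pullSec (i ≫ e) (eg m (-(d : ℤ)) le_rfl)))) = _
  rw [pullback_map_pullSec]
  exact congrArg (fun z => φ.app _ z) (K137.Basic.id_inv _ _ _)

/-- The classes of the equation on the charts exist. -/
theorem exists_c {C X : Scheme.{u}} (i : C ⟶ X) (e : X ⟶ CohB1.ProjSpace n k) [QuasiCompact i] [QuasiCompact e]
    {d : ℕ} (G : Form n k d) (h : hypIdeal G ≤ (i ≫ e).ker) (m : Fin (n + 1)) :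
    ∃ c : Γ(ClSub.idealMod i.ker, e ⁻¹ᵁ chart n k m),
      (ClSub.idealModι i.ker).app (e ⁻¹ᵁ chart n k m) c = e.app (chart n k m) (rho m le_rfl G.1) := by
  obtain ⟨la, hla⟩ := exists_la (i ≫ e) G h
  have w : i ≫ e = 𝟙 _ ≫ (i ≫ e) := (Category.id_comp _).symm
  refine ⟨K583.ConMap.idPull w (chart n k m) (la.app _ (eg m (-(d : ℤ)) le_rfl)), ?_⟩
  have h1 := K583.ConMap.idealSect_idPull w (chart n k m) (la.app _ (eg m (-(d : ℤ)) le_rfl))
  have h2 : (ClSub.idealModι (i ≫ e).ker).app (chart n k m) (la.app _ (eg m (-(d : ℤ)) le_rfl)) =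
      ofFun (rho m le_rfl G.1) := by
    rw [← mulO_eg1 G (-(d : ℤ)) (by omega) m le_rfl, ← hla]
    rfl
  exact h1.trans (congrArg (fun z => e.app (chart n k m) (OmegaSh.fnSect _ _ z)) h2)

end K419.ThetaMap
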