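import Mathlib.LinearAlgebra.FiniteDimensional.Lemmas
import Mathlib.LinearAlgebra.Dimension.Finrank

/-!
# A dimension count for linear relations
-/

set_option autoImplicit false

namespace K419.CountLin

open Module

variable {k V W : Type*} [Field k] [AddCommGroup V] [Module k V] [AddCommGroup W] [Module k W]
  [Module.Finite k V] [Module.Finite k W]

theorem count (R : Submodule k (V × W)) (hR : ∀ v, ∃ w, (v, w) ∈ R) {w₀ : W} (hw₀ : w₀ ≠ 0)
    (h₀ : ((0 : V), w₀) ∈ R) (Wd : Submodule k W) (hWd : ∀ v w, (v, w) ∈ R → w ∈ Wd) (Kd : Submodule k V)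
    (hKd : ∀ v, (v, (0 : W)) ∈ R → v ∈ Kd) : finrank k V + 1 ≤ finrank k Wd + finrank k Kd := by
  let p : R →ₗ[k] V := (LinearMap.fst k V W).comp R.subtype
  let q : R →ₗ[k] W := (LinearMap.snd k V W).comp R.subtype
  have h1 := p.finrank_range_add_finrank_ker
  have h2 := q.finrank_range_add_finrank_ker
  have hp : LinearMap.range p = ⊤ := by
    rw [LinearMap.range_eq_top]
    intro v
    obtain ⟨w, hw⟩ := hR v
    exact ⟨⟨(v, w), hw⟩, rfl⟩
  rw [hp, finrank_top] at h1
  have h3 : 1 ≤ finrank k (LinearMap.ker p) := by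
    have : Nontrivial (LinearMap.ker p) := by
      refine ⟨⟨⟨⟨(0, w₀), h₀⟩, rfl⟩, 0, fun h => hw₀ ?_⟩⟩
      exact congrArg (fun z : LinearMap.ker p => (z : R).1.2) h
    exact finrank_pos (R := k) (M := LinearMap.ker p)
  have h4 : finrank k (LinearMap.range q) ≤ finrank k Wd := by
    refine Submodule.finrank_mono ?_
    rintro _ ⟨z, rfl⟩
    exact hWd z.1.1 z.1.2 z.2
  have h5 : finrank k (LinearMap.ker q) ≤ finrank k Kd := by
    let g : LinearMap.ker q →ₗ[k] Kd :=
      { toFun := fun z => ⟨p z.1, hKd _ (by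
          have hz : q z.1 = 0 := z.2
          have h6 : (z.1.1 : V × W) = (p z.1, 0) := Prod.ext rfl hz
          rw [← h6]; exact z.1.2)⟩
        map_add' := fun a b => rfl
        map_smul' := fun a b => rfl }
    refine LinearMap.finrank_le_finrank_of_injective (f := g) fun a b h => ?_
    have ha : q a.1 = 0 := a.2
    have hb : q b.1 = 0 := b.2
    have h6 : p a.1 = p b.1 := congrArg Subtype.val h
    exact Subtype.ext (Subtype.ext (Prod.ext h6 (ha.trans hb.symm)))
  omega

end K419.CountLin
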