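import Groth.Agent.Fano.K419.QuartGood
import Groth.Agent.JacVar.K533.CurveH1
import Groth.Agent.S1530
import Groth.Agent.S0051
import Groth.Agent.Surf.K33.DP4

/-!
# Curves in projective space: Hilbert polynomial, sections, and curves inside complete intersections

* `E_nat`: `χ(O_C(m)) = m · deg + χ(O_C)` for an integral curve;
* `finrank_twist`: `h⁰(O_C(m)) = m · deg` for an integral curve of genus one;
* `E_le_of_le`: if `i : X → P^N` is a closed subscheme of `Y ⊂ P^N` then `χ(O_X(m)) ≤ χ(O_Y(m))` for `m ≫ 0`;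
* `ker_eq_of_E`: a closed subscheme of a complete intersection of positive dimension with the same Euler
  characteristics is equal to it.
-/

set_option autoImplicit false
universe u
open CategoryTheory CategoryTheory.Limits AlgebraicGeometry TopologicalSpace Opposite

namespace K419.CurveE

open LefPen Groth.Agent Groth.Agent.Coherent.K51 Groth.Agent.Grpsch.PicGrp K33.CIEuler K419.QuartGood
open Groth.Agent.Lefpen.H21.PicTwist K464.Base K464.Curves

variable {k : Type u} [Field k] {N : ℕ}

theorem nonempty_pow {Y : Scheme.{u}} (y : Y ⟶ CohB1.ProjSpace N k) (m : ℕ) :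
    Nonempty (CohB1.tensorPow ((Scheme.Modules.pullback y).obj (Twist.twistProjSpace N k 1)) m ≅
        (Scheme.Modules.pullback y).obj (Twist.twistProjSpace N k m)) := by
  rw [← mk_eq_iff (Fdesc.LocGen.isInvertible_tensorPow (isInvertible_pullback_twist y 1) m)
    (isInvertible_pullback_twist y m), mk_tensorPow (isInvertible_pullback_twist y 1) m, mk_pullback_twist,
    mk_pullback_twist, zpow_one, zpow_natCast]

section Curve

variable [IsAlgClosed k] {C : Scheme.{u}} (j : C ⟶ CohB1.ProjSpace N k) (p : C ⟶ Spec (CommRingCat.of k))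
  (hj : j ≫ CohB1.ProjSpace.toSpec N k = p) (hpr : IsProper p) [IsIntegral C] (hdim : topologicalKrullDim C = 1)

include hj hpr hdim

omit [IsAlgClosed k] in
theorem E_nat (m : ℕ) : E j m = m * @Curv2.deg k _ C ⟨p⟩ ((Scheme.Modules.pullback j).obj (Twist.twistProjSpace N k 1)) 1
      + E j 0 := by
  letI : C.Over (Spec (CommRingCat.of k)) := ⟨p⟩
  have : IsProper (C ↘ Spec (CommRingCat.of k)) := hpr
  obtain ⟨e⟩ := nonempty_pow j m
  have h1 := Groth.Agent.S1530.deg_tensorPow (k := k) hdim (isInvertible_pullback_twist j 1) m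
  rw [CurvesC.DegIso.deg_congr k e, deg_eq_E j p hj m] at h1
  have h2 : (Curv2.deg k C ((Scheme.Modules.pullback j).obj (Twist.twistProjSpace N k 1)) 1 : ℤ) =
    @Curv2.deg k _ C ⟨p⟩ ((Scheme.Modules.pullback j).obj (Twist.twistProjSpace N k 1)) 1 := rfl
  rw [← h2]
  linarith

theorem finrank_twist (hg : @Curv2.genus k _ C ⟨p⟩ = 1) {d : ℕ} (hd : 0 < d)
    (hdeg : @Curv2.deg k _ C ⟨p⟩ ((Scheme.Modules.pullback j).obj (Twist.twistProjSpace N k 1)) 1 = d)
    (m : ℕ) (hm : 0 < m) :
    letI : C.Over (Spec (CommRingCat.of k)) := ⟨p⟩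
    Module.finrank k (Coh.HH C ((Scheme.Modules.pullback j).obj (Twist.twistProjSpace N k m)) 0) = m * d := by
  letI : C.Over (Spec (CommRingCat.of k)) := ⟨p⟩
  have : IsProper (C ↘ Spec (CommRingCat.of k)) := hpr
  have h0 := VarietyA.CurveFin.finrank_h0_structure k C
  have h1 := E_nat j p hj hpr hdim m
  rw [hdeg] at h1
  have h3 : Curv2.deg k C ((Scheme.Modules.pullback j).obj (Twist.twistProjSpace N k m)) 1 = m * d := by
    rw [deg_eq_E j p hj m]
    linarith
  have h4 : (0 : ℤ) < m * d := by positivity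
  have hg' : Curv2.genus k C = 1 := hg
  have h2 := K533.CurveH1.h0_eq k hdim h0 (isInvertible_pullback_twist j m) (by rw [h3, hg']; push_cast; linarith)
  rw [h3, hg'] at h2
  push_cast at h2
  have h5 : (Module.finrank k (Coh.HH C ((Scheme.Modules.pullback j).obj (Twist.twistProjSpace N k m)) 0) : ℤ) =
    ((m * d : ℕ) : ℤ) := by rw [h2]; push_cast; ring
  exact_mod_cast h5

end Curve

section Sub

variable {X Y : Scheme.{u}} (i : X ⟶ CohB1.ProjSpace N k) [IsClosedImmersion i] (I : (CohB1.ProjSpace N k).IdealSheafData)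
  (hle : I ≤ i.ker)

include hle

theorem exists_factor : ∃ j : X ⟶ I.subscheme, j ≫ I.subschemeι = i ∧ IsClosedImmersion j := by
  have hker : I.subschemeι.ker = I := Scheme.IdealSheafData.ker_subschemeι _
  refine ⟨IsClosedImmersion.lift I.subschemeι i (hker.trans_le hle), IsClosedImmersion.lift_fac _ _ _, ?_⟩
  have : IsClosedImmersion (IsClosedImmersion.lift I.subschemeι i (hker.trans_le hle) ≫ I.subschemeι) := by
    rw [IsClosedImmersion.lift_fac]; infer_instance
  exact IsClosedImmersion.of_comp _ I.subschemeι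

theorem E_le_of_le : ∃ n₀ : ℕ, ∀ m : ℕ, n₀ ≤ m → E i m ≤ E I.subschemeι m := by
  obtain ⟨j, hj, hjc⟩ := exists_factor i I hle
  letI := ovr I.subschemeι
  have hproj : IsProper (CohB1.ProjSpace.toSpec N k) := inferInstance
  have hy : IsProper (I.subschemeι ≫ CohB1.ProjSpace.toSpec N k) := inferInstance
  have hy' : IsProper (I.subscheme ↘ (Spec (CommRingCat.of k))) := hy
  have hL : CohB1.IsAmple ((Scheme.Modules.pullback I.subschemeι).obj (Twist.twistProjSpace N k 1)) :=
    K802.TwistP.isAmple_one _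
  obtain ⟨n₀, hn₀⟩ := (Groth.Agent.S0051.result k I.subscheme (I.subscheme ↘ Spec (CommRingCat.of k)) _
    (isInv I.subschemeι 1)).1 hL (ClSub.idealMod j.ker) (isCoh_idealMod k I.subscheme j.ker)
  refine ⟨n₀, fun m hm => ?_⟩
  obtain ⟨e⟩ := nonempty_pow I.subschemeι m
  have h1 := E_ideal I.subschemeι hy j.ker m
  rw [← E_image, hj] at h1
  have h2 : 0 ≤ Curv2.euler k I.subscheme (CohB1.tensorMod (ClSub.idealMod j.ker)
      (CohB1.tensorPow ((Scheme.Modules.pullback I.subschemeι).obj (Twist.twistProjSpace N k 1)) m)) := by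
    unfold Curv2.euler
    rw [finsum_eq_single _ 0 fun n hn => by
      have := hn₀ m hm n (Nat.pos_of_ne_zero hn)
      rw [Module.finrank_zero_of_subsingleton]
      push_cast
      ring]
    simp
  have h3 := CurvesC.DegIso.euler_congr k (Ega2.Tens.mapTIso (Iso.refl (ClSub.idealMod j.ker)) e)
  rw [h3] at h2
  have h4 := h2.trans_eq h1
  linarith

end Sub

/-- A closed subscheme of a complete intersection with the same Euler characteristics. -/
theorem ker_eq_of_E {r : ℕ} (hr : r + 1 ≤ N) (a : Fin r → ℕ) (G : ∀ j : Fin r, Form N k (a j)) (hG : CIReg.IsReg G)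
    {X : Scheme.{u}} (i : X ⟶ CohB1.ProjSpace N k) [IsClosedImmersion i] (hle : ciIdeal G ≤ i.ker)
    (hE : ∀ m : ℕ, E i m = E (ciIdeal G).subschemeι m) : i.ker = ciIdeal G := by
  obtain ⟨j, hj, hjc⟩ := exists_factor i (ciIdeal G) hle
  let y := (ciIdeal G).subschemeι
  letI := ovr y
  have hproj : IsProper (CohB1.ProjSpace.toSpec N k) := inferInstance
  have hy : IsProper (y ≫ CohB1.ProjSpace.toSpec N k) := inferInstance
  have hy' : IsProper ((ciIdeal G).subscheme ↘ (Spec (CommRingCat.of k))) := hy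
  have hker : y.ker = ciIdeal G := Scheme.IdealSheafData.ker_subschemeι _
  have hL : CohB1.IsAmple ((Scheme.Modules.pullback y).obj (Twist.twistProjSpace N k 1)) := K802.TwistP.isAmple_one y
  have hJ : j.ker = ⊥ := by
    refine K33.DP4.eq_bot_of_const k hL (isInv y (-1)) j.ker 0 (fun m => ?_)
      (K33.DP4.subsingleton_neg hr a G hG)
    obtain ⟨e⟩ := nonempty_pow y m
    have h1 := E_ideal y hy j.ker m
    rw [← E_image, hj, hE m, sub_self] at h1
    exact (CurvesC.DegIso.euler_congr k (Ega2.Tens.mapTIso (Iso.refl _) e)).trans h1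
  have hiso : IsIso j := IsClosedImmersion.isIso_iff_ker_eq_bot.mpr hJ
  have e1 : (j ≫ y).ker = y.ker := le_antisymm (by
    have : y = inv j ≫ (j ≫ y) := by simp
    conv_rhs => rw [this]
    exact Scheme.Hom.le_ker_comp _ _) (Scheme.Hom.le_ker_comp _ _)
  rw [hj] at e1
  exact e1.trans hker

end K419.CurveE
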