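import Groth.Agent.BunMod.K325.HomDual
import Groth.Agent.Surf.K461.SerreLF
import Groth.Agent.VBCurve.K706.HomFin
import Groth.Agent.VBCurve.K708.InvH0
import Groth.Agent.Fano.K560.EllReg
import Groth.Agent.VBCurve.K704.Sat

/-!
# The dimension of `Hom(E, O)` on a curve of genus one

`finrank_hom`: if `H⁰(C, E) = 0` then `dim Hom(E, O_C) = - deg E` (`C` a smooth proper curve of genus one over an
algebraically closed field, `E` finite locally free).
-/

set_option autoImplicit false
universe u

open CategoryTheory CategoryTheory.Limits AlgebraicGeometry MonoidalCategory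
open Groth.Agent Groth.Agent.CurvesC Groth.Agent.CurvesC.RepX Groth.Agent.CurvesC.DualLin

attribute [local instance] HasDerivedCategory.standard

namespace K419.HomDim

open scoped Groth.Agent.Dcoh.MonCat

section lin

attribute [-instance] KLin.homModule KLin.linearOver
attribute [local instance] LinMod.linearModules

variable (k : Type u) [Field k] {X : Scheme.{u}} [X.Over (Spec (CommRingCat.of k))]

theorem finrank_hom_aux (E F : X.Modules) [DCoh.HasSheafHom E] :
    Module.finrank k (E ⟶ F) = Module.finrank k (Coh.HH X ((DCoh.sheafHom E).obj F) 0) :=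
  have _hR : (DCoh.sheafHom E).Linear k := K461.LFHom.linear_sheafHom k E
  let E1 : (E ⟶ F) ≃ₗ[k] (CohB1.tensorMod E (Coh.structureModule X) ⟶ F) :=
    Linear.homCongr k (Ega2.Tens.runit E).symm (Iso.refl _)
  let E2 : (CohB1.tensorMod E (Coh.structureModule X) ⟶ F) ≃ₗ[k] HV X ((DCoh.sheafHom E).obj F) 0 :=
    (K953.DualDim.adjE k (DCoh.sheafHomAdj E) (Coh.structureModule X) F).trans (K953.DualDim.homZero k _)
  (E1.trans E2).finrank_eq

end lin

variable (k : Type u) [Field k] {X : Scheme.{u}} [X.Over (Spec (CommRingCat.of k))]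

theorem smul_eq (E F : X.Modules) (a : k) (φ : E ⟶ F) :
    φ ≫ Formal.smulMod k F a = a • φ := by
  change φ ≫ Formal.smulMod k F a = Formal.smulMod k E a ≫ φ
  exact (FormalB.ModPow.smulMod_naturality φ a).symm

theorem module_eq (E F : X.Modules) :
    (LinMod.linearModules k X).homModule E F = KLin.homModule k X E F :=
  Module.ext' _ _ fun a φ => smul_eq k E F a φ

theorem finrank_hom_eq (E F : X.Modules) [DCoh.HasSheafHom E] :
    Module.finrank k (E ⟶ F) = Module.finrank k (Coh.HH X ((DCoh.sheafHom E).obj F) 0) := by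
  rw [← finrank_hom_aux k E F, module_eq]

section Genus

variable {k : Type u} [Field k] [IsAlgClosed k] {C : Scheme.{u}} [C.Over (Spec (CommRingCat.of k))]
  [IsProper (C ↘ Spec (CommRingCat.of k))] [Smooth (C ↘ Spec (CommRingCat.of k))] [IsIntegral C]
  (hdim : topologicalKrullDim C = 1) (hg : Curv2.genus k C = 1)

include hdim hg in
/-- `dim Hom(E, O) = - deg E` if `H⁰(E) = 0`, on a curve of genus one. -/
theorem finrank_hom {E : C.Modules} {r : ℕ} (hE : FlatMod.IsFinLocFreeOfRank r E) (h0 : Subsingleton (Coh.HH C E 0)) :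
    (Module.finrank k (E ⟶ Coh.structureModule C) : ℤ) = - Curv2.deg k C E r := by
  have hc : GeometricallyConnected (C ↘ Spec (CommRingCat.of k)) :=
    Fdesc.GeomAlgClosed.geometricallyConnected_of_connectedSpace _
  have hs1 := K560.EllReg.relDim_one (k := k) hdim
  obtain ⟨ω⟩ := S7831.result k C hdim hg
  have hE' := Groth.Agent.Krr.H487.KerRank.isFinLocFree_of_rank hE
  have hW : ExtPow.IsExtPow 1 (Omega.sheaf (C ↘ Spec (CommRingCat.of k))) (Coh.structureModule C) :=
    Krr.H487.ExtPull.isExtPow_of_iso (Groth.Agent.Sga67.TensorOps.isExtPow_one _) ω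
  have := Groth.Agent.Sga2.PnHomAdj.hasSheafHom E
  have e0 := K461.SerreLF.finrank_eq k 1 hW hE' 0 1 rfl
  rw [finrank_hom_eq, ← e0]
  have h3 : Module.finrank k (Coh.HH C E 0) = 0 := Module.finrank_zero_of_subsingleton
  have h4 : Curv2.euler k C (Coh.structureModule C) = 0 := by
    rw [CurvesC.CurveCoh.euler_eq k C hdim, K317.SmoothCurve.h0_eq_one k C,
      show Module.finrank k (Coh.HH C (Coh.structureModule C) 1) = 1 from hg]
    norm_num
  have h5 : Curv2.euler k C E = - (Module.finrank k (Coh.HH C E 1) : ℤ) := by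
    rw [CurvesC.CurveCoh.euler_eq k C hdim, h3]
    simp
  rw [Curv2.deg, h4, h5]
  ring

include hdim hg in
/-- `dim Hom(Q, O) = - deg Q` for an invertible module of negative degree. -/
theorem finrank_hom_inv {Q : C.Modules} (hQ : PicF.IsInvertible Q) (hdeg : Curv2.deg k C Q 1 < 0) :
    (Module.finrank k (Q ⟶ Coh.structureModule C) : ℤ) = - Curv2.deg k C Q 1 := by
  have hQ1 := K704.Sat.rank_of_isInvertible hQ
  refine finrank_hom hdim hg hQ1 (K708.InvH0.subsingleton_h0_of_neg (K707.Base.Crv.of_smooth (k := k) hdim) hQ ?_)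
  rwa [K707.Deg.dg_of_rank k hQ1]

end Genus

end K419.HomDim
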