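import Groth.Agent.Cubic.K656.Trilin

/-!
# Setting a linear form equal to zero

* `exists_kill`: for a nonzero linear form `l` in `n + 1` variables there are graded algebra maps
  `φ : k[x_0..x_n] → k[y_1..y_n]`, `ψ` in the other direction with `φ ψ = id`, `ker φ = (l)`.
-/

set_option autoImplicit false
universe u

open MvPolynomial

namespace K419.KillLin

variable {k : Type u} [Field k] {n : ℕ}

/-- Graded algebra maps `φ, ψ` with `φ ψ = id` and `ker φ = (l)`. -/
structure Kill (l : MvPolynomial (Fin (n + 1)) k) where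
  φ : MvPolynomial (Fin (n + 1)) k →ₐ[k] MvPolynomial (Fin n) k
  ψ : MvPolynomial (Fin n) k →ₐ[k] MvPolynomial (Fin (n + 1)) k
  φψ : ∀ g, φ (ψ g) = g
  sub_mem : ∀ f, f - ψ (φ f) ∈ Ideal.span {l}
  φl : φ l = 0
  homφ : ∀ {d : ℕ} {g : MvPolynomial (Fin (n + 1)) k}, g.IsHomogeneous d → (φ g).IsHomogeneous d
  homψ : ∀ {d : ℕ} {g : MvPolynomial (Fin n) k}, g.IsHomogeneous d → (ψ g).IsHomogeneous d

theorem exists_kill (l : MvPolynomial (Fin (n + 1)) k) (hl : l.IsHomogeneous 1) (hl0 : l ≠ 0) : Nonempty (Kill l) := by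
  obtain ⟨v, hv⟩ : ∃ v : Fin (n + 1) → k, l = ∑ i, C (v i) * X i := ⟨_, K656.Trilin.euler1 hl⟩
  obtain ⟨i₀, hi₀⟩ : ∃ i, v i ≠ 0 := by
    by_contra hc
    push Not at hc
    apply hl0
    rw [hv]
    simp [hc]
  let w : MvPolynomial (Fin n) k := ∑ j, C (v (i₀.succAbove j)) * X j
  have hw : w.IsHomogeneous 1 := by
    refine IsHomogeneous.sum _ _ _ fun j _ => ?_
    simpa using (isHomogeneous_C _ _).mul (isHomogeneous_X k j)
  let g : Fin (n + 1) → MvPolynomial (Fin n) k := i₀.insertNth (C (-(v i₀)⁻¹) * w) X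
  let φ : MvPolynomial (Fin (n + 1)) k →ₐ[k] MvPolynomial (Fin n) k := aeval g
  let ψ : MvPolynomial (Fin n) k →ₐ[k] MvPolynomial (Fin (n + 1)) k := aeval fun j => X (i₀.succAbove j)
  have hg0 : g i₀ = C (-(v i₀)⁻¹) * w := Fin.insertNth_apply_same (α := fun _ => MvPolynomial (Fin n) k) i₀ _ _
  have hgj : ∀ j, g (i₀.succAbove j) = X j := fun j =>
    Fin.insertNth_apply_succAbove (α := fun _ => MvPolynomial (Fin n) k) i₀ _ _ j
  have hφ0 : φ (X i₀) = C (-(v i₀)⁻¹) * w := by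
    change aeval g (X i₀) = _
    rw [aeval_X, hg0]
  have hφj : ∀ j, φ (X (i₀.succAbove j)) = X j := fun j => by
    change aeval g (X _) = _
    rw [aeval_X, hgj]
  have hψ : ∀ j, ψ (X j) = X (i₀.succAbove j) := fun j => by
    change aeval _ (X j) = _
    rw [aeval_X]
  have hψw : ψ w + C (v i₀) * X i₀ = l := by
    rw [hv, Fin.sum_univ_succAbove _ i₀, add_comm (ψ w)]
    congr 1
    rw [map_sum]
    refine Finset.sum_congr rfl fun j _ => ?_
    rw [map_mul, hψ]
    congr 1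
    exact ψ.commutes _
  have hφψ : ∀ g, φ (ψ g) = g := by
    intro g
    have : (φ.comp ψ) = AlgHom.id k _ := by
      apply algHom_ext
      intro j
      change φ (ψ (X j)) = X j
      rw [hψ, hφj]
    exact congrArg (fun F : MvPolynomial (Fin n) k →ₐ[k] MvPolynomial (Fin n) k => F g) this
  refine ⟨⟨φ, ψ, hφψ, fun f => ?_, ?_, ?_, ?_⟩⟩
  · rw [← Ideal.Quotient.mk_eq_mk_iff_sub_mem]
    have h1 : (Ideal.Quotient.mkₐ k (Ideal.span {l})) = (Ideal.Quotient.mkₐ k (Ideal.span {l})).comp (ψ.comp φ) := by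
      apply algHom_ext
      intro i
      rw [AlgHom.comp_apply, AlgHom.comp_apply, Ideal.Quotient.mkₐ_eq_mk, Ideal.Quotient.mk_eq_mk_iff_sub_mem]
      rcases Fin.eq_self_or_eq_succAbove i₀ i with rfl | ⟨j, rfl⟩
      · rw [hφ0, map_mul, show ψ (C (-(v i)⁻¹)) = C (-(v i)⁻¹) from ψ.commutes _]
        have h2 : X i - C (-(v i)⁻¹) * ψ w = C (v i)⁻¹ * l := by
          rw [← hψw, mul_add, ← mul_assoc, ← C_mul, inv_mul_cancel₀ hi₀, C_1, one_mul, C_neg]
          ring
        rw [h2]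
        exact Ideal.mul_mem_left _ _ (Ideal.mem_span_singleton_self _)
      · rw [hφj, hψ, sub_self]
        exact Ideal.zero_mem _
    exact congrArg (fun F : MvPolynomial (Fin (n + 1)) k →ₐ[k] (MvPolynomial (Fin (n + 1)) k ⧸ Ideal.span {l}) => F f) h1
  · rw [← hψw, map_add, hφψ, map_mul, hφ0, ← mul_assoc, show φ (C (v i₀)) = C (v i₀) from φ.commutes _, ← C_mul,
      mul_neg, mul_inv_cancel₀ hi₀, C_neg, C_1]
    ring
  · intro d g' hg'
    have h := hg'.aeval g (n := 1) fun i => by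
      rcases Fin.eq_self_or_eq_succAbove i₀ i with rfl | ⟨j, rfl⟩
      · rw [hg0]
        have := (isHomogeneous_C (Fin n) (-(v i)⁻¹)).mul hw
        rwa [zero_add] at this
      · rw [hgj]
        exact isHomogeneous_X k j
    rw [one_mul] at h
    exact h
  · intro d g' hg'
    have h := hg'.aeval (fun j => (X (i₀.succAbove j) : MvPolynomial (Fin (n + 1)) k)) (n := 1) fun i =>
      isHomogeneous_X k _
    rw [one_mul] at h
    exact h

namespace Kill

variable {l : MvPolynomial (Fin (n + 1)) k} (K : Kill l)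

theorem mem_of_φ {f : MvPolynomial (Fin (n + 1)) k} (h : K.φ f = 0) : f ∈ Ideal.span {l} := by
  have h1 := K.sub_mem f
  rwa [h, map_zero, sub_zero] at h1

theorem φ_of_mem {f : MvPolynomial (Fin (n + 1)) k} (h : f ∈ Ideal.span {l}) : K.φ f = 0 := by
  obtain ⟨g, rfl⟩ := Ideal.mem_span_singleton'.1 h
  rw [map_mul, K.φl, mul_zero]

theorem mem_span_pair_iff {q f : MvPolynomial (Fin (n + 1)) k} :
    f ∈ Ideal.span {l, q} ↔ K.φ f ∈ Ideal.span {K.φ q} := by
  constructor
  · intro h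
    obtain ⟨a, b, rfl⟩ := Ideal.mem_span_pair.1 h
    rw [map_add, map_mul, map_mul, K.φl, mul_zero, zero_add]
    exact Ideal.mul_mem_left _ _ (Ideal.mem_span_singleton_self _)
  · intro h
    obtain ⟨g, hg⟩ := Ideal.mem_span_singleton'.1 h
    have h1 : f - K.ψ g * q ∈ Ideal.span {l} := K.mem_of_φ (by rw [map_sub, map_mul, K.φψ, hg, sub_self])
    obtain ⟨a, ha⟩ := Ideal.mem_span_singleton'.1 h1
    exact Ideal.mem_span_pair.2 ⟨a, K.ψ g, by rw [ha]; ring⟩

end Kill

end K419.KillLin
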