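import Groth.Agent.Fano.K419.ThetaCount
import Groth.Agent.Fano.K783.ThetaLin
import Groth.Agent.Fano.K255.AsmE

/-!
# G8 of S16528: every elliptic quintic is a limit of nondegenerate ones
-/

set_option autoImplicit false
universe u
open CategoryTheory CategoryTheory.Limits AlgebraicGeometry TopologicalSpace Opposite

namespace K419.LimE

open LefPen Groth.Agent Groth.Agent.Fano.K714.Rat Groth.Agent.Fano.K714.Quart Groth.Agent.Fano.K715.Quint K255.Pf
open K419.ThetaDef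

variable {k : Type u} [Field k] [IsAlgClosed k] [CharZero k]

/-- (W) for all curves on the threefold -/
def WStmt (f : LefPen.Form 4 k 3) : Prop :=
  ∀ (C : Scheme.{u}) (p : C ⟶ Spec (CommRingCat.of k)) (i : C ⟶ Xf f) (_ : IsClosedImmersion i)
    (_ : i ≫ ps f = p) (_ : Smooth p) (_ : IsProper p) (_ : IsIntegral C)
    (_ : topologicalKrullDim C = 1) (l : LefPen.Form 4 k 1) (_ : l ≠ 0) (_ : LefPen.hypIdeal l ≤ (i ≫ emb f).ker),
    IndepStmt f i l

theorem exists_nondeg (f : LefPen.Form 4 k 3) (hf : f ≠ 0) [Smooth (ps f)]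
    (H : Over (Spec (CommRingCat.of k))) (Z : FGA.HilbSet (ps f) H) (hH : FGA.HilbRepresentedBy (ps f) H Z)
    (hW : WStmt f) : K255.AsmE.LimStmt f H Z := by
  rintro x ⟨h, C, p, i, rfl, hcl, hip, hsm, hpr, hint, hdim, hg, hdeg, hh⟩ A hA
  by_contra hno
  by_cases hnd : NonDeg (i ≫ emb f).ker
  · exact hno ⟨_, hA, h, C, p, i, rfl, hcl, hip, hsm, hpr, hint, hdim, hg, hdeg, hnd, hh⟩
  unfold NonDeg at hnd
  push Not at hnd
  obtain ⟨l, hl0, hl⟩ := hnd
  have hI := hW C p i hcl hip hsm hpr hint hdim l hl0 hl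
  have hg' : @Curv2.genus k _ C ⟨p⟩ = 1 := hg
  have hdeg' : @Curv2.deg k _ C ⟨p⟩ ((Scheme.Modules.pullback (i ≫ emb f)).obj
      (Twist.twistProjSpace 4 k 1)) 1 = 5 := hdeg
  have h0 := K554.ConDeg.conormal_deg_of f hf C p i hcl hip hsm hpr hint hdim hg' hdeg' l hl
    (vanBound hl0 hl hI)
  have hreg := K560.EllReg.regular_ten f hf H Z hH C p i hcl hip hsm hpr hint hdim hg' hdeg' h0 h hh
  obtain ⟨m, hm⟩ := K419.MuMap.exists_chart_ne (i ≫ emb f)
  obtain ⟨θ, hθ⟩ : ∃ θ : Omega.conormal i ⟶ Coh.structureModule C, ∀ l₁ : LefPen.Form 4 k 1,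
      ¬ ∀ s : Γ(ClSub.idealMod i.ker, emb f ⁻¹ᵁ chart 4 k m),
        (ClSub.idealModι i.ker).app (emb f ⁻¹ᵁ chart 4 k m) s =
          Fdesc.LocGen.ofFun (((emb f).app (chart 4 k m)).hom (K715.Geo.rho m le_rfl l.1)) →
        θ.app (i ⁻¹ᵁ emb f ⁻¹ᵁ chart 4 k m) (Fdesc.LocGen.pullSec i s) =
          Fdesc.LocGen.ofFun ((i.app (emb f ⁻¹ᵁ chart 4 k m)).hom
            (((emb f).app (chart 4 k m)).hom (K715.Geo.rho m le_rfl l₁.1))) := by
    let : C.Over (Spec (CommRingCat.of k)) := ⟨p⟩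
    have hs' : Smooth (C ↘ Spec (CommRingCat.of k)) := hsm
    have hp' : IsProper (C ↘ Spec (CommRingCat.of k)) := hpr
    exact K419.ThetaCount.main f hf hdim i hip hg' hdeg' h0 l hl0 hl hI m hm
  obtain ⟨l₁, hl₁⟩ := K783.ThetaLin.theta_linear f hf H Z hH C p i hcl hip hsm hpr hint hdim hg' hdeg' h hh hreg.1
    A hA hno l hl0 hl m hm θ
  exact hθ l₁ hl₁

end K419.LimE
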