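import Groth.Agent.Fano.K419.LimE
import Groth.Agent.Fano.K783.ExNonDeg

/-!
# The inputs of `K783.ExNonDeg` from `K419.LimE.WStmt`
-/

set_option autoImplicit false
universe u
open CategoryTheory CategoryTheory.Limits AlgebraicGeometry TopologicalSpace Opposite

namespace K419.LimE2

open LefPen Groth.Agent Groth.Agent.Fano.K714.Rat Groth.Agent.Fano.K714.Quart Groth.Agent.Fano.K715.Quint K255.Pf
open K419.ThetaDef

variable {k : Type u} [Field k] [IsAlgClosed k]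

theorem wStmt (f : LefPen.Form 4 k 3) (hW : K419.LimE.WStmt f) : K783.ExNonDeg.WStmt f := by
  intro C p i hcl hip hsm hpr hint hdim _ _ l hl0 hl
  exact vanBound hl0 hl (hW C p i hcl hip hsm hpr hint hdim l hl0 hl)

theorem nonLin (f : LefPen.Form 4 k 3) (hf : f ≠ 0) [Smooth (ps f)] (hW : K419.LimE.WStmt f) :
    K783.ExNonDeg.NonLinStmt f := by
  intro C p i hcl hip hsm hpr hint hdim hg hdeg l hl0 hl
  have hI := hW C p i hcl hip hsm hpr hint hdim l hl0 hl
  have h0 := K554.ConDeg.conormal_deg_of f hf C p i hcl hip hsm hpr hint hdim hg hdeg l hl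
    (vanBound hl0 hl hI)
  obtain ⟨m, hm⟩ := K419.MuMap.exists_chart_ne (i ≫ emb f)
  obtain ⟨θ, hθ⟩ : ∃ θ : Omega.conormal i ⟶ Coh.structureModule C, ∀ l₁ : LefPen.Form 4 k 1,
      ¬ ∀ s : Γ(ClSub.idealMod i.ker, emb f ⁻¹ᵁ chart 4 k m),
        (ClSub.idealModι i.ker).app (emb f ⁻¹ᵁ chart 4 k m) s =
          Fdesc.LocGen.ofFun (((emb f).app (chart 4 k m)).hom (K715.Geo.rho m le_rfl l.1)) →
        θ.app (i ⁻¹ᵁ emb f ⁻¹ᵁ chart 4 k m) (Fdesc.LocGen.pullSec i s) =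
          Fdesc.LocGen.ofFun ((i.app (emb f ⁻¹ᵁ chart 4 k m)).hom
            (((emb f).app (chart 4 k m)).hom (K715.Geo.rho m le_rfl l₁.1))) := by
    let : C.Over (Spec (CommRingCat.of k)) := ⟨p⟩
    have hs' : Smooth (C ↘ Spec (CommRingCat.of k)) := hsm
    have hp' : IsProper (C ↘ Spec (CommRingCat.of k)) := hpr
    exact K419.ThetaCount.main f hf hdim i hip hg hdeg h0 l hl0 hl hI m hm
  refine ⟨θ, fun l₁ => ?_⟩
  have h := hθ l₁
  push Not at h
  obtain ⟨s, h1, h2⟩ := h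
  exact ⟨m, s, h1, h2⟩

end K419.LimE2
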