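import Groth.Agent.Fano.K419.ThetaMap
import Groth.Agent.Nrm16.K137.Chart
import Groth.Agent.VBCurve.K704.Sat
import Groth.Agent.CycB.PureK
import Groth.Agent.VBCurve.K708.SSH0
import Groth.Agent.Ega3B.ProjTwist
import Groth.Prelude.Def_KLin

/-!
# Multiplication by a form as a map `j^* O(-d) ⟶ O_C`

`mu j l : (pullback j).obj (O(-d)) ⟶ O_C`, which sends the pulled back generator on the chart `m` to `l / x_m^d`.
-/

set_option autoImplicit false
universe u
open CategoryTheory CategoryTheory.Limits AlgebraicGeometry TopologicalSpace Opposite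

namespace K419.MuMap

open LefPen K715.Geo K715.Gens K715.Res K560.FormMaps
open Groth.Agent Groth.Agent.Lefpen.H705.HypIdeal Groth.Agent.Lefpen.H705.ChartPoly
open Groth.Agent.Fdesc.LocGen

variable {n : ℕ} {k : Type u} [Field k] {C : Scheme.{u}} (j : C ⟶ CohB1.ProjSpace n k)

/-- Multiplication by a form. -/
noncomputable def mu {d : ℕ} (l : Form n k d) :
    (Scheme.Modules.pullback j).obj (OO n k (-(d : ℤ))) ⟶ Coh.structureModule C :=
  (Scheme.Modules.pullback j).map (mulO l (-(d : ℤ)) (by omega)) ≫ Fga.UnitRestrict.pullbackUnitHom j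

theorem mu_app {d : ℕ} (l : Form n k d) (m : Fin (n + 1)) :
    (mu j l).app (j ⁻¹ᵁ chart n k m) (pullSec j (eg m (-(d : ℤ)) le_rfl)) =
      ofFun (j.app (chart n k m) (rho m le_rfl l.1)) := by
  change (Fga.UnitRestrict.pullbackUnitHom j).app _ (((Scheme.Modules.pullback j).map
    (mulO l (-(d : ℤ)) (by omega))).app _ (pullSec j (eg m (-(d : ℤ)) le_rfl))) = _
  rw [pullback_map_pullSec, mulO_eg1]
  exact K137.Chart.pullbackUnitHom_pullSect j (chart n k m) (rho m le_rfl l.1)

/-- Generators are not zero. -/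
theorem ne_zero_of_isGen {M : C.Modules} {U : C.Opens} {g : Γ(M, U)} (hg : IsGen g) [IsIntegral C]
    (hU : (U : Set C).Nonempty) : g ≠ 0 := by
  intro h
  have h1 : (1 : Γ(C, U)) = 0 := hg.ext (by rw [h, smul_zero, smul_zero])
  have : Nonempty U := ⟨⟨hU.some, hU.some_mem⟩⟩
  exact one_ne_zero h1

theorem isGen_pull (m : Fin (n + 1)) (a : ℤ) : IsGen (pullSec j (eg (n := n) (k := k) m a le_rfl)) :=
  (isGen_eg m a le_rfl).pullSec j

theorem isInv (a : ℤ) : PicF.IsInvertible ((Scheme.Modules.pullback j).obj (OO n k a)) :=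
  Fdesc.LocGen.isInvertible_pullback j (Groth.Agent.Ega3B.ProjTwist.isInvertible_twistProjSpace n k _)

theorem exists_chart (x : C) : ∃ m : Fin (n + 1), x ∈ j ⁻¹ᵁ chart n k m := by
  have h1 : j x ∈ (⨆ m : Fin (n + 1), chart n k m) := by rw [iSup_chart]; trivial
  obtain ⟨m, hm⟩ := TopologicalSpace.Opens.mem_iSup.1 h1
  exact ⟨m, hm⟩

variable [C.Over (Spec (CommRingCat.of k))] [IsIntegral C] [IsProper (C ↘ Spec (CommRingCat.of k))]

/-- Maps from an invertible module to a bundle on a curve are determined by one local generator. -/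
theorem hom_ext_gen (Cv : K707.Base.Crv k C) {L E : C.Modules} (hL : PicF.IsInvertible L) (hE : FlatMod.IsFinLocFree E)
    {U : C.Opens} (hU : (U : Set C).Nonempty) {g : Γ(L, U)} (hg : IsGen g) {α β : L ⟶ E}
    (h : α.app U g = β.app U g) : α = β := by
  by_contra hne
  have hm := K704.Sat.mono_of_ne_zero Cv hL hE (α - β) (sub_ne_zero.2 hne)
  refine ne_zero_of_isGen hg hU (CycB.PureK.app_injective_of_mono (α - β) U ?_)
  rw [map_zero]
  exact sub_eq_zero.2 h

omit [IsIntegral C] in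
theorem isFinLocFree_unit : FlatMod.IsFinLocFree (Coh.structureModule C) :=
  K707.Base.isFinLocFree_of_rank K708.SSH0.rank_structureModule

theorem hom_ext_eg (Cv : K707.Base.Crv k C) {a : ℤ} {E : C.Modules} (hE : FlatMod.IsFinLocFree E)
    {m : Fin (n + 1)} (hm : ((j ⁻¹ᵁ chart n k m : C.Opens) : Set C).Nonempty)
    {α β : (Scheme.Modules.pullback j).obj (OO n k a) ⟶ E}
    (h : α.app (j ⁻¹ᵁ chart n k m) (pullSec j (eg m a le_rfl)) =
      β.app (j ⁻¹ᵁ chart n k m) (pullSec j (eg m a le_rfl))) : α = β :=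
  hom_ext_gen Cv (isInv j a) hE hm (isGen_pull j m a) h

omit [C.Over (Spec (CommRingCat.of k))] [IsProper (C ↘ Spec (CommRingCat.of k))] in
theorem exists_chart_ne : ∃ m : Fin (n + 1), ((j ⁻¹ᵁ chart n k m : C.Opens) : Set C).Nonempty := by
  obtain ⟨x⟩ := (inferInstance : Nonempty C)
  obtain ⟨m, hm⟩ := exists_chart j x
  exact ⟨m, x, hm⟩

variable (hj : j ≫ CohB1.ProjSpace.toSpec n k = C ↘ Spec (CommRingCat.of k))

theorem mu_add (Cv : K707.Base.Crv k C) {d : ℕ} (l l' : Form n k d) : mu j (l + l') = mu j l + mu j l' := by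
  obtain ⟨m, hm⟩ := exists_chart_ne j
  refine hom_ext_eg j Cv isFinLocFree_unit hm ?_
  have h1 := mu_app j (l + l') m
  have h2 := mu_app j l m
  have h3 := mu_app j l' m
  rw [h1]
  refine Eq.trans ?_ (congrArg₂ (· + ·) h2 h3).symm
  change (j.app (chart n k m)) (rho m le_rfl (l.1 + l'.1)) = (j.app (chart n k m)) (rho m le_rfl l.1) +
    (j.app (chart n k m)) (rho m le_rfl l'.1)
  rw [map_add, map_add]

include hj in
theorem mu_smul (Cv : K707.Base.Crv k C) {d : ℕ} (a : k) (l : Form n k d) : mu j (a • l) = a • mu j l := by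
  obtain ⟨m, hm⟩ := exists_chart_ne j
  refine hom_ext_eg j Cv isFinLocFree_unit hm ?_
  rw [mu_app, KLin.smul_app_apply, mu_app]
  have h1 : (a • l).1 = MvPolynomial.C a * l.1 := MvPolynomial.smul_eq_C_mul _ _
  rw [h1, map_mul]
  refine ((j.app (chart n k m)).hom.map_mul _ _).trans ?_
  rw [K783.SyzHom.app_rho_C j m le_rfl a _ hj]
  rfl

end K419.MuMap
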