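import Mathlib

/-!
# Two generators of a five-dimensional space of functions (elliptic normal quintics)

`V` is a five-dimensional space of functions in a field `K` over an algebraically closed field `k`, `dim V·V ≤ 10`,
`K` is generated by the ratios of elements of `V`, and `K` is not purely transcendental `k(t)`.

* `exists_pencil`: if `{a ∈ V : u a ∈ V}` has dimension at least three then `V = ⟨y, u y, u² y, w, u w⟩`;
* `exists_rel`, `no_conic`: the relation of bidegree `(-1, 2)`, and no relation of bidegree `(-2, 2)`.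
-/

set_option autoImplicit false
universe u v

open Polynomial IntermediateField Module

namespace K419.QuintChain

variable {k : Type u} [Field k] {K : Type v} [Field K] [Algebra k K]

theorem aeval_mem (u : K) (P : k[X]) : aeval u P ∈ adjoin k {u} :=
  algebra_adjoin_le_adjoin k _ (aeval_mem_adjoin_singleton k u)

theorem exists_not_mem (hK : ∀ t : K, adjoin k {t} ≠ ⊤) {V : Submodule k K} {a : K}
    (hgen : adjoin k ((fun x => x / a) '' (V : Set K)) = ⊤) (u : K) : ∃ z ∈ V, z / a ∉ adjoin k {u} := by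
  by_contra h
  push Not at h
  refine hK u (top_le_iff.1 ?_)
  rw [← hgen, adjoin_le_iff]
  rintro _ ⟨z, hz, rfl⟩
  exact h z hz

theorem eq_zero_of_not_mem {u a z : K} (hu : Transcendental k u) (ha : a ≠ 0) (hz : z / a ∉ adjoin k {u})
    {P R : k[X]} (h : aeval u P * a + aeval u R * z = 0) : P = 0 ∧ R = 0 := by
  have hR : R = 0 := by
    by_contra hR
    have h1 : aeval u R ≠ 0 := fun h0 => hR ((transcendental_iff.1 hu) R h0)
    apply hz
    have h2 : z / a = - (aeval u P / aeval u R) := by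
      field_simp
      linear_combination h
    rw [h2]
    exact neg_mem (div_mem (aeval_mem u P) (aeval_mem u R))
  subst hR
  refine ⟨?_, rfl⟩
  rw [map_zero, zero_mul, add_zero, mul_eq_zero] at h
  exact (transcendental_iff.1 hu) P (h.resolve_right ha)

theorem aeval_mul_mem {V : Submodule k K} {u x : K} {n : ℕ} (h : ∀ i < n, u ^ i * x ∈ V) {P : k[X]}
    (hP : P ∈ degreeLT k n) : aeval u P * x ∈ V := by
  rw [Polynomial.mem_degreeLT] at hP
  rcases eq_or_ne P 0 with rfl | hP0
  · simp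
  · have h1 : P.natDegree < n := (natDegree_lt_iff_degree_lt hP0).2 hP
    rw [aeval_eq_sum_range, Finset.sum_mul]
    refine V.sum_mem fun i hi => ?_
    rw [smul_mul_assoc]
    refine V.smul_mem _ (h i ?_)
    rw [Finset.mem_range] at hi
    omega

theorem finrank_degreeLT (n : ℕ) : finrank k (degreeLT k n) = n := by
  rw [(degreeLTEquiv k n).finrank_eq, finrank_fin_fun]

theorem false_of_chain (hK : ∀ t : K, adjoin k {t} ≠ ⊤) {V : Submodule k K} [Module.Finite k V]
    (h10 : finrank k ↥(V * V) ≤ 10) {u a : K} (hu : Transcendental k u) (ha : a ≠ 0)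
    (hgen : adjoin k ((fun x => x / a) '' (V : Set K)) = ⊤) (hm : ∀ i < 4, u ^ i * a ∈ V) : False := by
  obtain ⟨z, hz, hza⟩ := exists_not_mem hK hgen u
  have hfin : Module.Finite k ↥(V * V) := by
    have h1 : V.FG := Module.Finite.iff_fg.1 inferInstance
    exact Module.Finite.iff_fg.2 (h1.mul h1)
  have h1 : ∀ i < 7, u ^ i * (a * a) ∈ V * V := fun i hi => by
    have h2 : u ^ i * (a * a) = (u ^ (i / 2) * a) * (u ^ (i - i / 2) * a) := by
      have : u ^ i = u ^ (i / 2) * u ^ (i - i / 2) := by rw [← pow_add]; congr 1; omega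
      rw [this]; ring
    rw [h2]
    exact Submodule.mul_mem_mul (hm _ (by omega)) (hm _ (by omega))
  have h2 : ∀ i < 4, u ^ i * (a * z) ∈ V * V := fun i hi => by
    rw [← mul_assoc]
    exact Submodule.mul_mem_mul (hm _ hi) hz
  let Φ : (degreeLT k 7 × degreeLT k 4) →ₗ[k] ↥(V * V) :=
    { toFun := fun p => ⟨aeval u p.1.1 * (a * a) + aeval u p.2.1 * (a * z),
        (V * V).add_mem (aeval_mul_mem h1 p.1.2) (aeval_mul_mem h2 p.2.2)⟩
      map_add' := fun p q => by
        apply Subtype.ext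
        simp only [Prod.fst_add, Prod.snd_add, Submodule.coe_add, map_add]
        ring
      map_smul' := fun c p => by
        apply Subtype.ext
        simp only [Prod.smul_fst, Prod.smul_snd, Submodule.coe_smul, map_smul, RingHom.id_apply, smul_add,
          smul_mul_assoc] }
  have hΦ : Function.Injective Φ := by
    rw [injective_iff_map_eq_zero]
    intro p hp
    have h3 : aeval u p.1.1 * (a * a) + aeval u p.2.1 * (a * z) = 0 := congrArg Subtype.val hp
    have h4 : aeval u p.1.1 * a + aeval u p.2.1 * z = 0 := by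
      have : a * (aeval u p.1.1 * a + aeval u p.2.1 * z) = 0 := by linear_combination h3
      exact (mul_eq_zero.1 this).resolve_left ha
    obtain ⟨h5, h6⟩ := eq_zero_of_not_mem hu ha hza h4
    exact Prod.ext (Subtype.ext h5) (Subtype.ext h6)
  have h3 := LinearMap.finrank_le_finrank_of_injective hΦ
  rw [finrank_prod, finrank_degreeLT, finrank_degreeLT] at h3
  omega

section Pencil

/-- multiplication by `u` -/
noncomputable def mu (u : K) : K →ₗ[k] K := LinearMap.mulLeft k u

theorem mu_apply (u x : K) : mu (k := k) u x = u * x := rfl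

theorem finrank_map_mu {u : K} (hu : u ≠ 0) (A : Submodule k K) : finrank k (A.map (mu u)) = finrank k A :=
  (Submodule.equivMapOfInjective (mu u) (fun _ _ h => mul_left_cancel₀ hu h) A).finrank_eq.symm

/-- `{a ∈ A : u a ∈ A}`. -/
noncomputable def DD (u : K) (A : Submodule k K) : Submodule k K := A ⊓ A.comap (mu u)

theorem mem_DD {u : K} {A : Submodule k K} {a : K} : a ∈ DD u A ↔ a ∈ A ∧ u * a ∈ A := Iff.rfl

theorem map_DD (u : K) (A : Submodule k K) : (DD u A).map (mu u) = A ⊓ A.map (mu u) := by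
  ext b
  constructor
  · rintro ⟨a, ha, rfl⟩
    exact ⟨(mem_DD.1 ha).2, ⟨a, (mem_DD.1 ha).1, rfl⟩⟩
  · rintro ⟨hb, ⟨a, ha, rfl⟩⟩
    exact ⟨a, ⟨ha, hb⟩, rfl⟩

theorem finrank_DD {u : K} (hu : u ≠ 0) (A : Submodule k K) [Module.Finite k A] :
    finrank k (DD u A) + finrank k ↥(A ⊔ A.map (mu u)) = 2 * finrank k A := by
  have h1 := Submodule.finrank_sup_add_finrank_inf_eq A (A.map (mu u))
  rw [← map_DD, finrank_map_mu hu, finrank_map_mu hu] at h1
  omega

theorem span_pair_lt {u y : K} (hu : Transcendental k u) (hy : y ≠ 0) : 2 ≤ finrank k ↥(Submodule.span k {y, u * y}) := by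
  have h1 : Submodule.span k {y} < Submodule.span k {y, u * y} := by
    refine lt_of_le_of_ne (Submodule.span_mono (by simp)) fun h => ?_
    have h2 : u * y ∈ Submodule.span k {y} := by
      rw [h]; exact Submodule.subset_span (by simp)
    obtain ⟨c, hc⟩ := Submodule.mem_span_singleton.1 h2
    have h3 : u = algebraMap k K c := by
      rw [Algebra.smul_def] at hc
      exact (mul_right_cancel₀ hy hc).symm
    exact hu (h3 ▸ isAlgebraic_algebraMap c)
  have hfin : Module.Finite k ↥(Submodule.span k {y, u * y}) := Module.Finite.span_of_finite k (by simp)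
  have h2 := Submodule.finrank_lt_finrank_of_lt h1
  rw [finrank_span_singleton hy] at h2
  omega

theorem span_le_adjoin {u y w t : K} (hy0 : y ≠ 0) {V : Submodule k K}
    (hVs : V = Submodule.span k {y, u * y, u ^ 2 * y, w, u * w}) (hu' : u ∈ adjoin k {t})
    (hwy' : y⁻¹ * w ∈ adjoin k {t}) :
    V ≤ (adjoin k {t}).toSubalgebra.toSubmodule.comap (mu y⁻¹) := by
  rw [hVs, Submodule.span_le]
  rintro x (rfl | rfl | rfl | rfl | rfl)
  · change x⁻¹ * x ∈ adjoin k {t}
    rw [inv_mul_cancel₀ hy0]; exact one_mem _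
  · change y⁻¹ * (u * y) ∈ adjoin k {t}
    have : y⁻¹ * (u * y) = u := by field_simp
    rw [this]; exact hu'
  · change y⁻¹ * (u ^ 2 * y) ∈ adjoin k {t}
    have : y⁻¹ * (u ^ 2 * y) = u ^ 2 := by field_simp
    rw [this]; exact pow_mem hu' 2
  · exact hwy'
  · change y⁻¹ * (u * w) ∈ adjoin k {t}
    have : y⁻¹ * (u * w) = u * (y⁻¹ * w) := by ring
    rw [this]; exact mul_mem hu' hwy'

theorem exists_pencil (hK : ∀ t : K, adjoin k {t} ≠ ⊤) {V : Submodule k K} (h5 : finrank k V = 5)
    (h10 : finrank k ↥(V * V) ≤ 10)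
    (hgen : ∀ a ∈ V, a ≠ 0 → adjoin k ((fun x => x / a) '' (V : Set K)) = ⊤)
    {u : K} (hu : Transcendental k u) (W : Submodule k K) (hW : 3 ≤ finrank k W) (hWV : W ≤ V)
    (huW : ∀ a ∈ W, u * a ∈ V) :
    ∃ y w : K, y ≠ 0 ∧ V = Submodule.span k {y, u * y, u ^ 2 * y, w, u * w} ∧
      ∀ P R : k[X], aeval u P * y + aeval u R * w = 0 → P = 0 ∧ R = 0 := by
  have hfinV : Module.Finite k V := Module.finite_of_finrank_pos (by rw [h5]; norm_num)
  have hfinW : Module.Finite k W := Submodule.finiteDimensional_of_le hWV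
  have hu0 : u ≠ 0 := fun h => hu (h ▸ isAlgebraic_zero)
  have hWle : W.map (mu u) ≤ V := by
    rintro _ ⟨a, ha, rfl⟩
    exact huW a ha
  have hsup : W ⊔ W.map (mu u) ≤ V := sup_le hWV hWle
  have hD : DD u (DD u W) = ⊥ := by
    rw [Submodule.eq_bot_iff]
    intro a ha
    by_contra ha0
    obtain ⟨h1, h2⟩ := mem_DD.1 ha
    obtain ⟨h3, h4⟩ := mem_DD.1 h1
    obtain ⟨h5, h6⟩ := mem_DD.1 h2
    refine false_of_chain hK h10 hu ha0 (hgen a (hWV h3) ha0) fun i hi => ?_
    interval_cases i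
    · simpa using hWV h3
    · simpa using hWV h4
    · have : u ^ 2 * a = u * (u * a) := by ring
      rw [this]; exact hWV h6
    · have : u ^ 3 * a = u * (u * (u * a)) := by ring
      rw [this]; exact huW _ h6
  have hfinD : Module.Finite k ↥(DD u W) := Submodule.finiteDimensional_of_le (inf_le_left.trans hWV)
  have e1 := finrank_DD hu0 W
  have e2 := finrank_DD hu0 (DD u W)
  rw [hD, finrank_bot] at e2
  have e3 : finrank k ↥(DD u W ⊔ (DD u W).map (mu u)) ≤ finrank k W := by
    refine Submodule.finrank_mono (sup_le inf_le_left ?_)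
    rw [map_DD]
    exact inf_le_left
  have e4 : finrank k ↥(W ⊔ W.map (mu u)) ≤ 5 := by
    rw [← h5]; exact Submodule.finrank_mono hsup
  have hW3 : finrank k W = 3 := by omega
  have hV : W ⊔ W.map (mu u) = V := Submodule.eq_of_le_of_finrank_le hsup (by omega)
  obtain ⟨⟨y, hy⟩, hy0⟩ := (Module.finrank_pos_iff_exists_ne_zero (R := k) (M := ↥(DD u W))).1 (by omega)
  have hy0 : y ≠ 0 := fun h => hy0 (Subtype.ext h)
  obtain ⟨hyW, huyW⟩ := mem_DD.1 hy
  have h2 := span_pair_lt hu hy0
  have h2' : Submodule.span k {y, u * y} ≤ W := Submodule.span_le.2 (by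
    rintro _ (rfl | rfl)
    · exact hyW
    · exact huyW)
  obtain ⟨w, hwW, hw⟩ : ∃ w ∈ W, w ∉ Submodule.span k {y, u * y} := by
    by_contra h
    push Not at h
    have h3 : finrank k W ≤ finrank k ↥(Submodule.span k {y, u * y}) := by
      have : W = Submodule.span k {y, u * y} := le_antisymm (fun w hw => h w hw) h2'
      rw [← this]
    have h4 : finrank k ↥(Submodule.span k {y, u * y}) ≤ 2 := by
      classical
      have h := finrank_span_finset_le_card (R := k) ({y, u * y} : Finset K)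
      rw [Finset.coe_pair] at h
      exact h.trans (Finset.card_le_two)
    omega
  have hWeq : Submodule.span k {y, u * y, w} = W := by
    refine Submodule.eq_of_le_of_finrank_le (Submodule.span_le.2 ?_) ?_
    · rintro _ (rfl | rfl | rfl)
      · exact hyW
      · exact huyW
      · exact hwW
    · have h3 : Submodule.span k {y, u * y} < Submodule.span k {y, u * y, w} := by
        refine lt_of_le_of_ne (Submodule.span_mono ?_) fun h => hw ?_
        · rintro _ (rfl | rfl) <;> simp
        · rw [h]; exact Submodule.subset_span (by simp)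
      have hfin : Module.Finite k ↥(Submodule.span k {y, u * y, w}) := Module.Finite.span_of_finite k (by simp)
      have h4 := Submodule.finrank_lt_finrank_of_lt h3
      omega
  have hVs : V = Submodule.span k {y, u * y, u ^ 2 * y, w, u * w} := by
    rw [← hV, ← hWeq, Submodule.map_span, ← Submodule.span_union]
    apply le_antisymm
    · refine Submodule.span_mono ?_
      rintro x (hx | hx)
      · rcases hx with rfl | rfl | rfl <;> simp
      · obtain ⟨z, hz, rfl⟩ := hx
        rcases hz with rfl | rfl | rfl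
        · simp [mu_apply]
        · have : mu (k := k) u (u * y) = u ^ 2 * y := by rw [mu_apply]; ring
          rw [this]; simp
        · simp [mu_apply]
    · refine Submodule.span_mono ?_
      rintro x (rfl | rfl | rfl | rfl | rfl)
      · exact Or.inl (by simp)
      · exact Or.inl (by simp)
      · exact Or.inr ⟨u * y, by simp, by rw [mu_apply]; ring⟩
      · exact Or.inl (by simp)
      · exact Or.inr ⟨w, by simp, rfl⟩
  refine ⟨y, w, hy0, hVs, fun P R h => eq_zero_of_not_mem hu hy0 (fun hwy => ?_) h⟩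
  obtain ⟨z, hz, hzy⟩ := exists_not_mem hK (hgen y (hWV hyW) hy0) u
  apply hzy
  have := span_le_adjoin hy0 hVs (mem_adjoin_simple_self k u) (by rwa [inv_mul_eq_div]) hz
  change y⁻¹ * z ∈ adjoin k {u} at this
  rwa [inv_mul_eq_div] at this

end Pencil

section Rel

variable {u y w : K}

/-- Relations of bidegree `(0, 2)`. -/
noncomputable def dom (k : Type u) [Field k] : Submodule k (k[X] × k[X] × k[X]) :=
  (degreeLT k 5).prod ((degreeLT k 4).prod (degreeLT k 3))

theorem finrank_dom : finrank k (dom k) = 12 := by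
  let e : (dom k) ≃ₗ[k] (degreeLT k 5 × degreeLT k 4 × degreeLT k 3) :=
    { toFun := fun p => (⟨p.1.1, p.2.1⟩, ⟨p.1.2.1, p.2.2.1⟩, ⟨p.1.2.2, p.2.2.2⟩)
      invFun := fun p => ⟨(p.1.1, p.2.1.1, p.2.2.1), p.1.2, p.2.1.2, p.2.2.2⟩
      map_add' := fun p q => rfl
      map_smul' := fun c p => rfl
      left_inv := fun p => rfl
      right_inv := fun p => rfl }
  rw [e.finrank_eq, finrank_prod, finrank_prod, finrank_degreeLT, finrank_degreeLT, finrank_degreeLT]

/-- evaluation of relations -/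
noncomputable def evr (u y w : K) : (k[X] × k[X] × k[X]) →ₗ[k] K where
  toFun p := aeval u p.1 * (y * y) + aeval u p.2.1 * (y * w) + aeval u p.2.2 * (w * w)
  map_add' p q := by
    simp only [Prod.fst_add, Prod.snd_add, map_add]
    ring
  map_smul' c p := by
    simp only [Prod.smul_fst, Prod.smul_snd, map_smul, RingHom.id_apply, smul_add, smul_mul_assoc]

theorem exists_ker_le {M N : Type*} [AddCommGroup M] [Module k M] [AddCommGroup N] [Module k N] (n : ℕ)
    (D : Submodule k M) (φ : M →ₗ[k] N) (S : Submodule k N) [Module.Finite k S] [Module.Finite k D]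
    (h : ∀ x ∈ D, φ x ∈ S) (hr : finrank k S + n ≤ finrank k D) :
    ∃ g : Fin n → M, LinearIndependent k g ∧ ∀ i, g i ∈ D ∧ φ (g i) = 0 := by
  have hr' : LinearMap.range (φ.domRestrict D) ≤ S := by
    rintro _ ⟨p, rfl⟩
    exact h p.1 p.2
  have h5 := Submodule.finrank_mono hr'
  have h4 := (φ.domRestrict D).finrank_range_add_finrank_ker
  obtain ⟨g, hg⟩ := exists_linearIndependent_of_le_finrank (R := k) (M := ↥(LinearMap.ker (φ.domRestrict D)))
    (n := n) (by omega)
  refine ⟨fun i => (g i).1.1, ?_, fun i => ⟨(g i).1.2, LinearMap.mem_ker.1 (g i).2⟩⟩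
  exact (hg.map' _ (Submodule.ker_subtype _)).map' _ (Submodule.ker_subtype D)

theorem two_rel {V : Submodule k K} [Module.Finite k V] (h10 : finrank k ↥(V * V) ≤ 10)
    (hV : V = Submodule.span k {y, u * y, u ^ 2 * y, w, u * w}) :
    ∃ g : Fin 2 → (k[X] × k[X] × k[X]), LinearIndependent k g ∧ ∀ i, g i ∈ dom k ∧ evr u y w (g i) = 0 := by
  have hfin : Module.Finite k ↥(V * V) := by
    have h1 : V.FG := Module.Finite.iff_fg.1 inferInstance
    exact Module.Finite.iff_fg.2 (h1.mul h1)
  have hy : ∀ i < 3, u ^ i * y ∈ V := fun i hi => by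
    rw [hV]
    interval_cases i
    · exact Submodule.subset_span (by simp)
    · exact Submodule.subset_span (by simp)
    · exact Submodule.subset_span (by simp)
  have hw : ∀ i < 2, u ^ i * w ∈ V := fun i hi => by
    rw [hV]
    interval_cases i
    · exact Submodule.subset_span (by simp)
    · exact Submodule.subset_span (by simp)
  have hspl : ∀ i : ℕ, u ^ i = u ^ (i / 2) * u ^ (i - i / 2) := fun i => by rw [← pow_add]; congr 1; omega
  have h1 : ∀ i < 5, u ^ i * (y * y) ∈ V * V := fun i hi => by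
    have h2 : u ^ i * (y * y) = (u ^ (i / 2) * y) * (u ^ (i - i / 2) * y) := by
      rw [hspl i]; ring
    rw [h2]
    exact Submodule.mul_mem_mul (hy _ (by omega)) (hy _ (by omega))
  have h2 : ∀ i < 4, u ^ i * (y * w) ∈ V * V := fun i hi => by
    have h2 : u ^ i * (y * w) = (u ^ (i - i / 2) * y) * (u ^ (i / 2) * w) := by
      rw [hspl i]; ring
    rw [h2]
    exact Submodule.mul_mem_mul (hy _ (by omega)) (hw _ (by omega))
  have h3 : ∀ i < 3, u ^ i * (w * w) ∈ V * V := fun i hi => by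
    have h2 : u ^ i * (w * w) = (u ^ (i / 2) * w) * (u ^ (i - i / 2) * w) := by
      rw [hspl i]; ring
    rw [h2]
    exact Submodule.mul_mem_mul (hw _ (by omega)) (hw _ (by omega))
  have hfd : Module.Finite k ↥(dom k) := Module.finite_of_finrank_pos (by rw [finrank_dom]; norm_num)
  exact exists_ker_le 2 (dom k) (evr u y w) (V * V) (fun p hp =>
    (V * V).add_mem ((V * V).add_mem (aeval_mul_mem h1 hp.1) (aeval_mul_mem h2 hp.2.1))
      (aeval_mul_mem h3 hp.2.2)) (by rw [finrank_dom]; omega)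

/-- All relations of degree two in `w` are multiples of one. -/
theorem exists_min (hy : y ≠ 0) (hlin : ∀ P R : k[X], aeval u P * y + aeval u R * w = 0 → P = 0 ∧ R = 0)
    {G : k[X] × k[X] × k[X]} (hG0 : G ≠ 0)
    (hG : aeval u G.1 * (y * y) + aeval u G.2.1 * (y * w) + aeval u G.2.2 * (w * w) = 0) :
    ∃ a : k[X] × k[X] × k[X], a.2.2 ≠ 0 ∧
      aeval u a.1 * (y * y) + aeval u a.2.1 * (y * w) + aeval u a.2.2 * (w * w) = 0 ∧
      ∀ b : k[X] × k[X] × k[X], aeval u b.1 * (y * y) + aeval u b.2.1 * (y * w) + aeval u b.2.2 * (w * w) = 0 →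
        ∃ q : k[X], b = (q * a.1, q * a.2.1, q * a.2.2) := by
  classical
  have hz : ∀ b : k[X] × k[X] × k[X], aeval u b.1 * (y * y) + aeval u b.2.1 * (y * w) +
      aeval u b.2.2 * (w * w) = 0 → b.2.2 = 0 → b = 0 := fun b hb h0 => by
    have h1 : y * (aeval u b.1 * y + aeval u b.2.1 * w) = 0 := by
      rw [h0, map_zero] at hb
      linear_combination hb
    obtain ⟨h2, h3⟩ := hlin _ _ ((mul_eq_zero.1 h1).resolve_left hy)
    exact Prod.ext h2 (Prod.ext h3 h0)
  have hex : ∃ n : ℕ, ∃ a : k[X] × k[X] × k[X], a.2.2 ≠ 0 ∧ a.2.2.natDegree = n ∧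
      aeval u a.1 * (y * y) + aeval u a.2.1 * (y * w) + aeval u a.2.2 * (w * w) = 0 :=
    ⟨_, G, fun h => hG0 (hz G hG h), rfl, hG⟩
  obtain ⟨a, ha0, han, ha⟩ := Nat.find_spec hex
  refine ⟨a, ha0, ha, fun b hb => ?_⟩
  have e1 := EuclideanDomain.div_add_mod b.2.2 a.2.2
  set q := b.2.2 / a.2.2 with hq
  have h1 : b - (q * a.1, q * a.2.1, q * a.2.2) = 0 := by
    refine hz _ ?_ ?_
    · simp only [Prod.fst_sub, Prod.snd_sub, map_sub, map_mul]
      linear_combination hb - aeval u q * ha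
    · simp only [Prod.snd_sub]
      by_contra h0
      have h2 : b.2.2 - q * a.2.2 = b.2.2 % a.2.2 := by
        rw [mul_comm]
        linear_combination -e1
      have h3 : (b.2.2 - q * a.2.2).natDegree < a.2.2.natDegree := by
        rw [h2]
        exact natDegree_lt_natDegree (by rw [← h2]; exact h0) (EuclideanDomain.mod_lt _ ha0)
      rw [han] at h3
      refine Nat.find_min hex h3 ⟨b - (q * a.1, q * a.2.1, q * a.2.2), h0, rfl, ?_⟩
      simp only [Prod.fst_sub, Prod.snd_sub, map_sub, map_mul]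
      linear_combination hb - aeval u q * ha
  exact ⟨q, sub_eq_zero.1 h1⟩

theorem natDegree_le_of_mul {q a : k[X]} {n : ℕ} (hq : 1 ≤ q.natDegree) (h : q * a ∈ degreeLT k (n + 2)) :
    a.natDegree ≤ n := by
  rcases eq_or_ne a 0 with rfl | ha
  · simp
  · have hq0 : q ≠ 0 := fun h0 => by rw [h0, natDegree_zero] at hq; omega
    rw [Polynomial.mem_degreeLT] at h
    have h1 := (natDegree_lt_iff_degree_lt (mul_ne_zero hq0 ha)).2 h
    rw [natDegree_mul hq0 ha] at h1
    omega

theorem exists_rel {V : Submodule k K} [Module.Finite k V] (h10 : finrank k ↥(V * V) ≤ 10)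
    (hV : V = Submodule.span k {y, u * y, u ^ 2 * y, w, u * w}) (hy : y ≠ 0)
    (hlin : ∀ P R : k[X], aeval u P * y + aeval u R * w = 0 → P = 0 ∧ R = 0) :
    ∃ A₃ A₂ A₁ : k[X], A₃.natDegree ≤ 3 ∧ A₂.natDegree ≤ 2 ∧ A₁.natDegree ≤ 1 ∧
      (A₃ ≠ 0 ∨ A₂ ≠ 0 ∨ A₁ ≠ 0) ∧ y ^ 2 * aeval u A₃ + y * w * aeval u A₂ + w ^ 2 * aeval u A₁ = 0 := by
  obtain ⟨g, hg, hgr⟩ := two_rel h10 hV
  obtain ⟨a, ha0, ha, hall⟩ := exists_min hy hlin (hg.ne_zero 0) (hgr 0).2
  choose q hq using fun i => hall (g i) (hgr i).2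
  obtain ⟨i, hi⟩ : ∃ i, 1 ≤ (q i).natDegree := by
    by_contra h
    push Not at h
    have h0 : ∀ i, q i = C ((q i).coeff 0) := fun i => eq_C_of_natDegree_le_zero (by have := h i; omega)
    have h1 : ∀ i, g i = (q i).coeff 0 • a := fun i => by
      rw [hq i, h0 i]
      simp only [coeff_C_zero]
      refine Prod.ext ?_ (Prod.ext ?_ ?_) <;> simp [smul_eq_C_mul]
    have h2 := (LinearIndependent.pair_iff (R := k) (x := g 0) (y := g 1)).1 (by
      have : ![g 0, g 1] = g := by ext i <;> fin_cases i <;> rfl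
      rw [this]; exact hg) ((q 1).coeff 0) (-(q 0).coeff 0) (by
      rw [h1 0, h1 1, smul_smul, smul_smul]
      have : (-(q 0).coeff 0) * (q 1).coeff 0 = - ((q 1).coeff 0 * (q 0).coeff 0) := by ring
      rw [this, neg_smul, add_neg_cancel])
    exact hg.ne_zero 1 (by rw [h1 1, h2.1, zero_smul])
  obtain ⟨⟨d1, d2, d3⟩, -⟩ := hgr i
  rw [hq i] at d1 d2 d3
  refine ⟨a.1, a.2.1, a.2.2, natDegree_le_of_mul hi d1, natDegree_le_of_mul hi d2, natDegree_le_of_mul hi d3,
    Or.inr (Or.inr ha0), ?_⟩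
  linear_combination ha

theorem exists_root [IsAlgClosed k] {c : k} (hc : c ≠ 0) (γ ζ : k) : ∃ v₀ : k, c * v₀ ^ 2 + γ * v₀ + ζ = 0 := by
  obtain ⟨v₀, hv₀⟩ := IsAlgClosed.exists_root (C c * X ^ 2 + C γ * X + C ζ) (by
    rw [degree_quadratic hc]; norm_num)
  refine ⟨v₀, ?_⟩
  simpa [IsRoot.def] using hv₀

theorem mem_base [IsAlgClosed k] {t : K} (ht : IsAlgebraic k t) : ∃ c : k, algebraMap k K c = t := by
  have h2 := IsAlgClosed.degree_eq_one_of_irreducible k (minpoly.irreducible ht.isIntegral)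
  exact minpoly.mem_range_of_degree_eq_one k t h2

theorem no_conic [IsAlgClosed k] (hK : ∀ t : K, adjoin k {t} ≠ ⊤) {V : Submodule k K}
    (hV : V = Submodule.span k {y, u * y, u ^ 2 * y, w, u * w}) (hy : y ≠ 0)
    (hgen : adjoin k ((fun x => x / y) '' (V : Set K)) = ⊤)
    (hlin : ∀ P R : k[X], aeval u P * y + aeval u R * w = 0 → P = 0 ∧ R = 0)
    (B₂ B₁ B₀ : k[X]) (d2 : B₂.natDegree ≤ 2) (d1 : B₁.natDegree ≤ 1) (d0 : B₀.natDegree ≤ 0)
    (h : y ^ 2 * aeval u B₂ + y * w * aeval u B₁ + w ^ 2 * aeval u B₀ = 0) : B₂ = 0 ∧ B₁ = 0 ∧ B₀ = 0 := by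
  rcases eq_or_ne B₀ 0 with h0 | h0
  · subst h0
    have h1 : y * (aeval u B₂ * y + aeval u B₁ * w) = 0 := by
      rw [map_zero] at h
      linear_combination h
    obtain ⟨h2, h3⟩ := hlin _ _ ((mul_eq_zero.1 h1).resolve_left hy)
    exact ⟨h2, h3, rfl⟩
  exfalso
  obtain ⟨c, rfl⟩ : ∃ c, B₀ = C c := ⟨_, eq_C_of_natDegree_le_zero d0⟩
  have hc : c ≠ 0 := fun hc => h0 (by rw [hc, C_0])
  obtain ⟨β, γ, rfl⟩ : ∃ β γ, B₁ = C β * X + C γ := ⟨_, _, eq_X_add_C_of_natDegree_le_one d1⟩
  obtain ⟨δ, ε, ζ, rfl⟩ : ∃ δ ε ζ, B₂ = C δ * X ^ 2 + C ε * X + C ζ :=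
    ⟨_, _, _, eq_quadratic_of_degree_le_two (natDegree_le_iff_degree_le.1 d2)⟩
  obtain ⟨v₀, hv₀⟩ := exists_root hc γ ζ
  have hu0 : u ≠ 0 := fun hu0 => by
    have := hlin X 0 (by rw [aeval_X, hu0]; simp)
    exact X_ne_zero this.1
  set A := algebraMap k K with hA
  set t : K := (w / y - A v₀) / u with ht
  have hw : w = (A v₀ + t * u) * y := by
    rw [ht]; field_simp; ring
  have h1 : A c * A v₀ ^ 2 + A γ * A v₀ + A ζ = 0 := by
    rw [← map_pow, ← map_mul, ← map_mul, ← map_add, ← map_add, hv₀, map_zero]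
  have h2 : u * (A c * t ^ 2 + A β * t + A δ) + (2 * A c * A v₀ * t + A γ * t + A β * A v₀ + A ε) = 0 := by
    simp only [map_add, map_mul, map_pow, aeval_C, aeval_X] at h
    rw [← hA] at h
    have h3 : y ^ 2 * u * (u * (A c * t ^ 2 + A β * t + A δ) + (2 * A c * A v₀ * t + A γ * t + A β * A v₀ + A ε))
        = 0 := by
      rw [hw] at h
      linear_combination h - y ^ 2 * h1
    exact (mul_eq_zero.1 h3).resolve_left (mul_ne_zero (pow_ne_zero 2 hy) hu0)
  have h3 : A c * t ^ 2 + A β * t + A δ ≠ 0 := fun h3 => by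
    have h4 : IsAlgebraic k t := by
      refine ⟨C c * X ^ 2 + C β * X + C δ, fun h0 => ?_, by simpa using h3⟩
      have := congrArg (fun p => coeff p 2) h0
      simp at this
      exact hc this
    obtain ⟨t₀, ht₀⟩ := mem_base h4
    have h5 := (hlin (C v₀ + C t₀ * X) (-1) (by
      simp only [map_add, map_mul, aeval_C, aeval_X, map_neg, map_one]
      rw [← hA, ht₀, hw]; ring)).2
    exact one_ne_zero (neg_eq_zero.1 h5)
  have hA' : ∀ c : k, A c ∈ adjoin k {t} := fun c => IntermediateField.algebraMap_mem _ c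
  have htm : t ∈ adjoin k {t} := mem_adjoin_simple_self k t
  have h4 : u ∈ adjoin k {t} := by
    have h5 : u = - (2 * A c * A v₀ * t + A γ * t + A β * A v₀ + A ε) / (A c * t ^ 2 + A β * t + A δ) := by
      rw [eq_div_iff h3]
      linear_combination h2
    rw [h5]
    have h2' : (2 : K) ∈ adjoin k {t} := by
      have := hA' 2
      rwa [hA, map_ofNat] at this
    refine div_mem (neg_mem ?_) ?_
    · exact add_mem (add_mem (add_mem (mul_mem (mul_mem (mul_mem h2' (hA' _)) (hA' _)) htm) (mul_mem (hA' _) htm))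
        (mul_mem (hA' _) (hA' _))) (hA' _)
    · exact add_mem (add_mem (mul_mem (hA' _) (pow_mem htm 2)) (mul_mem (hA' _) htm)) (hA' _)
  have h5 : y⁻¹ * w ∈ adjoin k {t} := by
    have : y⁻¹ * w = A v₀ + t * u := by rw [hw]; field_simp
    rw [this]
    exact add_mem (hA' _) (mul_mem htm h4)
  refine hK t (top_le_iff.1 ?_)
  rw [← hgen, adjoin_le_iff]
  rintro _ ⟨z, hz, rfl⟩
  have := span_le_adjoin hy hV h4 h5 hz
  change y⁻¹ * z ∈ adjoin k {t} at this
  rwa [inv_mul_eq_div] at this

end Rel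

end K419.QuintChain
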