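import Groth.Agent.Fano.K419.QuintChain
import Mathlib.RingTheory.Nullstellensatz

/-!
# Linearly general points on a projective curve, and the pencil they give

* `exists_eta`: coordinates such that no relation of degree two contains a square;
* `exists_u`: an element `u` such that `{a ∈ V : u a ∈ V}` has dimension at least three.
-/

set_option autoImplicit false
universe u v

open MvPolynomial Module

namespace K419.QuintPts

variable {k : Type u} [Field k] {K : Type v} [Field K] [Algebra k K] (ξ : Fin 5 → K)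

/-- The homogeneous coordinate ring. -/
noncomputable def hc (k : Type u) [Field k] [Algebra k K] (ξ : Fin 5 → K) :
    MvPolynomial (Fin 5) k →ₐ[k] Polynomial K :=
  aeval fun i => Polynomial.C (ξ i) * Polynomial.X

/-- The homogeneous ideal. -/
noncomputable def rel (k : Type u) [Field k] [Algebra k K] (ξ : Fin 5 → K) : Ideal (MvPolynomial (Fin 5) k) :=
  RingHom.ker (hc k ξ)

instance : (rel k ξ).IsPrime := RingHom.ker_isPrime _

/-- A linear form. -/
noncomputable def lf (a : Fin 5 → k) : MvPolynomial (Fin 5) k := ∑ i, C (a i) * X i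

theorem hc_lf (a : Fin 5 → k) : hc k ξ (lf a) = Polynomial.C (∑ i, a i • ξ i) * Polynomial.X := by
  simp only [hc, lf, map_sum, map_mul, aeval_X, Finset.sum_mul, ← algebraMap_eq, AlgHom.commutes]
  refine Finset.sum_congr rfl fun i _ => ?_
  rw [Algebra.smul_def, map_mul, Polynomial.algebraMap_apply, mul_assoc]

theorem eval_lf (a x : Fin 5 → k) : eval x (lf a) = ∑ i, a i * x i := by simp [lf]

theorem exists_basis [IsAlgClosed k] (hξ : LinearIndependent k ξ) :
    ∃ b : Basis (Fin 5) k (Fin 5 → k), ∀ i, ∀ F ∈ rel k ξ, eval (b i) F = 0 := by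
  have h1 : Submodule.span k (zeroLocus k (rel k ξ)) = ⊤ := by
    by_contra h
    obtain ⟨g, hg0, hg⟩ := Submodule.exists_le_ker_of_lt_top _ (lt_top_iff_ne_top.2 h)
    have h2 : lf (fun i => g (Pi.single i 1)) ∈ vanishingIdeal k (zeroLocus k (rel k ξ)) := fun x hx => by
      rw [aeval_eq_eval, eval_lf]
      have h3 := hg (Submodule.subset_span hx)
      rw [LinearMap.mem_ker] at h3
      rw [← h3]
      conv_rhs => rw [← Finset.univ_sum_single x, map_sum]
      refine Finset.sum_congr rfl fun i _ => ?_
      have h4 : (Pi.single i (x i) : Fin 5 → k) = x i • Pi.single i 1 := by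
        rw [← Pi.single_smul, smul_eq_mul, mul_one]
      rw [h4, map_smul, smul_eq_mul, mul_comm]
    rw [IsPrime.vanishingIdeal_zeroLocus] at h2
    have h3 : hc k ξ (lf fun i => g (Pi.single i 1)) = 0 := h2
    rw [hc_lf, mul_eq_zero, Polynomial.C_eq_zero] at h3
    have h4 := Fintype.linearIndependent_iff.1 hξ _ (h3.resolve_right Polynomial.X_ne_zero)
    apply hg0
    refine LinearMap.pi_ext' fun i => LinearMap.ext_ring ?_
    simpa using h4 i
  let b := Basis.ofSpan h1.ge
  have hb : Set.range b ⊆ zeroLocus k (rel k ξ) := Basis.ofSpan_subset h1.ge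
  have : Finite ↥((linearIndepOn_empty k id).extend (Set.empty_subset (zeroLocus k (rel k ξ)))) :=
    Module.Finite.finite_basis b
  have hcard : Nat.card ↥((linearIndepOn_empty k id).extend (Set.empty_subset (zeroLocus k (rel k ξ)))) = 5 := by
    rw [← Module.finrank_eq_nat_card_basis b, finrank_fin_fun]
  let e := Finite.equivFinOfCardEq hcard
  refine ⟨b.reindex e, fun i F hF => ?_⟩
  rw [Basis.reindex_apply]
  have := hb ⟨e.symm i, rfl⟩ F hF
  rwa [aeval_eq_eval] at this

/-- Coordinates such that no quadratic relation contains a square. -/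
theorem exists_eta [IsAlgClosed k] (hξ : LinearIndependent k ξ) :
    ∃ η : Fin 5 → K, (∀ i, η i ∈ Submodule.span k (Set.range ξ)) ∧ LinearIndependent k η ∧
      ∀ c : Fin 5 → Fin 5 → k, ∑ i, ∑ j, c i j • (η i * η j) = 0 → ∀ i, c i i = 0 := by
  obtain ⟨b, hb⟩ := exists_basis ξ hξ
  let D : Fin 5 → Fin 5 → k := fun i j => b.repr (Pi.single j 1) i
  have hD : ∀ (i : Fin 5) (x : Fin 5 → k), ∑ j, D i j * x j = b.repr x i := fun i x => by
    conv_rhs => rw [← Finset.univ_sum_single x, map_sum, Finsupp.finsetSum_apply]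
    refine Finset.sum_congr rfl fun j _ => ?_
    have h4 : (Pi.single j (x j) : Fin 5 → k) = x j • Pi.single j 1 := by
      rw [← Pi.single_smul, smul_eq_mul, mul_one]
    rw [h4, map_smul, Finsupp.smul_apply, smul_eq_mul, mul_comm]
  refine ⟨fun i => ∑ j, D i j • ξ j, fun i => Submodule.sum_mem _ fun j _ =>
    Submodule.smul_mem _ _ (Submodule.subset_span ⟨j, rfl⟩), ?_, ?_⟩
  · rw [Fintype.linearIndependent_iff]
    intro g hg
    have h1 : ∑ j, (∑ i, g i * D i j) • ξ j = 0 := by
      rw [← hg]
      simp_rw [Finset.smul_sum, Finset.sum_smul, smul_smul]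
      rw [Finset.sum_comm]
    have h2 := Fintype.linearIndependent_iff.1 hξ _ h1
    intro m
    have h3 : ∑ j, (∑ i, g i * D i j) * b m j = g m := by
      simp_rw [Finset.sum_mul]
      rw [Finset.sum_comm]
      simp_rw [mul_assoc, ← Finset.mul_sum, hD, Basis.repr_self]
      rw [Finset.sum_eq_single m]
      · rw [Finsupp.single_eq_same, mul_one]
      · intro i _ hi
        rw [Finsupp.single_eq_of_ne hi, mul_zero]
      · simp
    rw [← h3]
    exact Finset.sum_eq_zero fun j _ => by rw [h2 j, zero_mul]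
  · intro c hc m
    have h1 : (∑ i, ∑ j, C (c i j) * (lf (D i) * lf (D j))) ∈ rel k ξ := by
      rw [rel, RingHom.mem_ker, map_sum]
      simp_rw [map_sum, map_mul, hc_lf, ← algebraMap_eq, AlgHom.commutes]
      have h2 : ∀ i j : Fin 5, algebraMap k (Polynomial K) (c i j) *
          (Polynomial.C (∑ l, D i l • ξ l) * Polynomial.X * (Polynomial.C (∑ l, D j l • ξ l) * Polynomial.X)) =
          Polynomial.C (c i j • ((∑ l, D i l • ξ l) * (∑ l, D j l • ξ l))) * Polynomial.X ^ 2 := fun i j => by
        rw [Algebra.smul_def (c i j), map_mul, map_mul, Polynomial.algebraMap_apply]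
        ring
      simp_rw [h2, ← Finset.sum_mul, ← map_sum, hc]
      simp
    have h2 := hb m _ h1
    simp_rw [map_sum, map_mul, eval_C, eval_lf, hD, Basis.repr_self] at h2
    rw [Finset.sum_eq_single m, Finset.sum_eq_single m] at h2
    · simpa using h2
    · intro i _ hi
      rw [Finsupp.single_eq_of_ne hi]; ring
    · simp
    · intro i _ hi
      rw [Finsupp.single_eq_of_ne hi]; simp
    · simp

/-- quadratic forms in `η` -/
noncomputable def qd (k : Type u) [Field k] [Algebra k K] (η : Fin 5 → K) : (Fin 5 → Fin 5 → k) →ₗ[k] K where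
  toFun c := ∑ i, ∑ j, c i j • (η i * η j)
  map_add' c d := by simp only [Pi.add_apply, add_smul, Finset.sum_add_distrib]
  map_smul' a c := by simp only [Pi.smul_apply, smul_eq_mul, mul_smul, Finset.smul_sum, RingHom.id_apply]

theorem qd_apply (η : Fin 5 → K) (c : Fin 5 → Fin 5 → k) : qd k η c = ∑ i, ∑ j, c i j • (η i * η j) := rfl

theorem qd_mem {V : Submodule k K} {η : Fin 5 → K} (hη : ∀ i, η i ∈ V) (c : Fin 5 → Fin 5 → k) :
    qd k η c ∈ V * V := by
  rw [qd_apply]
  exact (V * V).sum_mem fun i _ => (V * V).sum_mem fun j _ =>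
    (V * V).smul_mem _ (Submodule.mul_mem_mul (hη i) (hη j))

/-- matrices with zero diagonal -/
noncomputable def offd (k : Type u) [Field k] : Submodule k (Fin 5 → Fin 5 → k) where
  carrier := {c | ∀ i, c i i = 0}
  add_mem' := fun {a b} ha hb i => by rw [Pi.add_apply, Pi.add_apply, ha i, hb i, add_zero]
  zero_mem' := fun i => rfl
  smul_mem' := fun a c hc i => by rw [Pi.smul_apply, Pi.smul_apply, hc i, smul_zero]

theorem finrank_offd {V : Submodule k K} [Module.Finite k V] (h10 : finrank k ↥(V * V) ≤ 10) {η : Fin 5 → K}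
    (hη : ∀ i, η i ∈ V) (hsq : ∀ c : Fin 5 → Fin 5 → k, ∑ i, ∑ j, c i j • (η i * η j) = 0 → ∀ i, c i i = 0) :
    finrank k ↥((offd k).map (qd k η)) ≤ 5 := by
  have hfin : Module.Finite k ↥(V * V) := by
    have h1 : V.FG := Module.Finite.iff_fg.1 inferInstance
    exact Module.Finite.iff_fg.2 (h1.mul h1)
  let Φ : (↥((offd k).map (qd k η)) × (Fin 5 → k)) →ₗ[k] ↥(V * V) :=
    { toFun := fun p => ⟨p.1.1 + qd k η (fun i j => if i = j then p.2 i else 0), (V * V).add_mem (by
        obtain ⟨c, -, hc⟩ := p.1.2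
        rw [← hc]; exact qd_mem hη c) (qd_mem hη _)⟩
      map_add' := fun p q => by
        apply Subtype.ext
        simp only [Prod.fst_add, Prod.snd_add, Submodule.coe_add]
        have : (fun i j => if i = j then (p.2 + q.2) i else 0 : Fin 5 → Fin 5 → k) =
          (fun i j => if i = j then p.2 i else 0) + (fun i j => if i = j then q.2 i else 0) := by
          ext i j
          by_cases h : i = j <;> simp [h]
        rw [this, map_add]
        abel
      map_smul' := fun a p => by
        apply Subtype.ext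
        simp only [Prod.smul_fst, Prod.smul_snd, Submodule.coe_smul, RingHom.id_apply, smul_add]
        have : (fun i j => if i = j then (a • p.2) i else 0 : Fin 5 → Fin 5 → k) =
          a • (fun i j => if i = j then p.2 i else 0) := by
          ext i j
          by_cases h : i = j <;> simp [h]
        rw [this, map_smul] }
  have hΦ : Function.Injective Φ := by
    rw [injective_iff_map_eq_zero]
    rintro ⟨⟨m, c, hc, rfl⟩, d⟩ hp
    have h1 : qd k η c + qd k η (fun i j => if i = j then d i else 0) = 0 := congrArg Subtype.val hp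
    rw [← map_add] at h1
    have hd : d = 0 := by
      ext i
      have h2 := hsq _ h1 i
      simpa [hc i] using h2
    subst hd
    have h3 : (fun i j => if i = j then (0 : Fin 5 → k) i else 0 : Fin 5 → Fin 5 → k) = 0 := by
      ext i j; simp
    rw [h3, add_zero] at h1
    exact Prod.ext (Subtype.ext h1) rfl
  have h3 := LinearMap.finrank_le_finrank_of_injective hΦ
  have hfin2 : Module.Finite k ↥((offd k).map (qd k η)) := inferInstance
  rw [finrank_prod, finrank_fin_fun] at h3
  omega

theorem exists_u [IsAlgClosed k] (hξ : LinearIndependent k ξ)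
    (h10 : finrank k ↥(Submodule.span k (Set.range ξ) * Submodule.span k (Set.range ξ)) ≤ 10) :
    ∃ u : K, Transcendental k u ∧ ∃ W : Submodule k K, 3 ≤ finrank k W ∧ W ≤ Submodule.span k (Set.range ξ) ∧
      ∀ a ∈ W, u * a ∈ Submodule.span k (Set.range ξ) := by
  obtain ⟨η, hη, hli, hsq⟩ := exists_eta ξ hξ
  set V := Submodule.span k (Set.range ξ) with hV
  have hfinV : Module.Finite k V := Module.Finite.span_of_finite k (Set.finite_range ξ)
  have h5 := finrank_offd h10 hη hsq
  have hfinM : Module.Finite k ↥((offd k).map (qd k η)) := inferInstance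
  have hmem : ∀ i j : Fin 5, i ≠ j → η i * η j ∈ (offd k).map (qd k η) := fun i j hij => by
    refine ⟨fun a b => if a = i ∧ b = j then 1 else 0, fun a => ?_, ?_⟩
    · change (if a = i ∧ a = j then (1 : k) else 0) = 0
      rw [if_neg]
      rintro ⟨rfl, h⟩
      exact hij h
    · rw [qd_apply, Finset.sum_eq_single i, Finset.sum_eq_single j]
      · simp
      · intro b _ hb; simp [hb]
      · simp
      · intro a _ ha; simp [ha]
      · simp
  -- the relations `η₀ a = η₁ b`
  let fa : (Fin 4 → k) →ₗ[k] K := Fintype.linearCombination k fun j : Fin 4 => η j.succ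
  let fb : (Fin 3 → k) →ₗ[k] K := Fintype.linearCombination k fun j : Fin 3 => η j.succ.succ
  let φ : ((Fin 4 → k) × (Fin 3 → k)) →ₗ[k] K :=
    ((QuintChain.mu (η 0)).comp fa).coprod (-((QuintChain.mu (η 1)).comp fb))
  have hφ : ∀ p ∈ (⊤ : Submodule k ((Fin 4 → k) × (Fin 3 → k))), φ p ∈ (offd k).map (qd k η) := fun p _ => by
    have h1 : φ p = η 0 * (∑ j, p.1 j • η j.succ) + -(η 1 * ∑ j, p.2 j • η j.succ.succ) := by
      simp only [φ, fa, fb, LinearMap.coprod_apply, LinearMap.comp_apply, LinearMap.neg_apply,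
        QuintChain.mu_apply, Fintype.linearCombination_apply]
    rw [h1]
    refine Submodule.add_mem _ ?_ (Submodule.neg_mem _ ?_)
    · rw [Finset.mul_sum]
      refine Submodule.sum_mem _ fun j _ => ?_
      rw [mul_smul_comm]
      exact Submodule.smul_mem _ _ (hmem _ _ (Fin.succ_ne_zero j).symm)
    · rw [Finset.mul_sum]
      refine Submodule.sum_mem _ fun j _ => ?_
      rw [mul_smul_comm]
      refine Submodule.smul_mem _ _ (hmem _ _ ?_)
      intro h
      have := congrArg Fin.val h
      simp at this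
  obtain ⟨g, hg, hgφ⟩ := QuintChain.exists_ker_le 2 ⊤ φ ((offd k).map (qd k η)) hφ (by
    rw [finrank_top, finrank_prod, finrank_fin_fun, finrank_fin_fun]
    omega)
  have h0 : η 1 ≠ 0 := hli.ne_zero 1
  set u := η 0 / η 1 with hu
  have hrel : ∀ i, u * fa (g i).1 = fb (g i).2 := fun i => by
    have h1 := (hgφ i).2
    have h2 : η 0 * fa (g i).1 + -(η 1 * fb (g i).2) = 0 := h1
    rw [hu]
    field_simp
    linear_combination h2
  have hu1 : u * η 1 = η 0 := by rw [hu]; field_simp
  have hfa : ∀ x, fa x ∈ V := fun x => by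
    simp only [fa, Fintype.linearCombination_apply]
    exact V.sum_mem fun j _ => V.smul_mem _ (hη _)
  have hfb : ∀ x, fb x ∈ V := fun x => by
    simp only [fb, Fintype.linearCombination_apply]
    exact V.sum_mem fun j _ => V.smul_mem _ (hη _)
  refine ⟨u, fun halg => ?_, Submodule.span k (Set.range ![η 1, fa (g 0).1, fa (g 1).1]), ?_, ?_, ?_⟩
  · obtain ⟨c, hc⟩ := QuintChain.mem_base halg
    have h1 : ∑ i, (![1, -c, 0, 0, 0] : Fin 5 → k) i • η i = 0 := by
      rw [Fin.sum_univ_five]
      simp only [Matrix.cons_val]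
      rw [← hu1, ← hc, Algebra.smul_def, Algebra.smul_def]
      simp
    have h2 := Fintype.linearIndependent_iff.1 hli _ h1 0
    simp at h2
  · have hind : LinearIndependent k ![η 1, fa (g 0).1, fa (g 1).1] := by
      rw [Fintype.linearIndependent_iff]
      intro x hx
      rw [Fin.sum_univ_three] at hx
      simp only [Matrix.cons_val] at hx
      have h1 : x 0 • η 0 + x 1 • fb (g 0).2 + x 2 • fb (g 1).2 = 0 := by
        have h2 := congrArg (fun z => u * z) hx
        simp only [mul_add, mul_smul_comm, mul_zero, hu1, hrel] at h2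
        exact h2
      have h2 : ∑ i, (Fin.cons (x 0) (Fin.cons 0 (x 1 • (g 0).2 + x 2 • (g 1).2)) : Fin 5 → k) i • η i = 0 := by
        rw [Fin.sum_univ_succ, Fin.sum_univ_succ]
        simp only [Fin.cons_zero, Fin.cons_succ, zero_smul, zero_add]
        rw [← h1, add_assoc]
        congr 1
        rw [← map_smul, ← map_smul, ← map_add]
        simp only [fb, Fintype.linearCombination_apply]
      have h3 := Fintype.linearIndependent_iff.1 hli _ h2
      have h4 : x 0 = 0 := by simpa using h3 0
      have h5 : x 1 • (g 0).2 + x 2 • (g 1).2 = 0 := by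
        ext j
        have := h3 j.succ.succ
        simpa using this
      have h6 : ∑ i, (Fin.cons 0 (x 1 • (g 0).1 + x 2 • (g 1).1) : Fin 5 → k) i • η i = 0 := by
        rw [Fin.sum_univ_succ]
        simp only [Fin.cons_zero, Fin.cons_succ, zero_smul, zero_add]
        rw [h4, zero_smul, zero_add, ← map_smul, ← map_smul, ← map_add] at hx
        rw [← hx]
        simp only [fa, Fintype.linearCombination_apply]
      have h7 := Fintype.linearIndependent_iff.1 hli _ h6
      have h8 : x 1 • (g 0).1 + x 2 • (g 1).1 = 0 := by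
        ext j
        have := h7 j.succ
        simpa using this
      have h9 := LinearIndependent.pair_iff.1 (by
        have : ![g 0, g 1] = g := by ext i : 1; fin_cases i <;> rfl
        rw [this]; exact hg : LinearIndependent k ![g 0, g 1]) (x 1) (x 2) (Prod.ext h8 h5)
      intro i
      fin_cases i
      · exact h4
      · exact h9.1
      · exact h9.2
    rw [finrank_span_eq_card hind, Fintype.card_fin]
  · rw [Submodule.span_le]
    rintro _ ⟨i, rfl⟩
    fin_cases i
    · exact hη 1
    · exact hfa _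
    · exact hfa _
  · intro a ha
    have : Submodule.span k (Set.range ![η 1, fa (g 0).1, fa (g 1).1]) ≤ V.comap (QuintChain.mu u) := by
      rw [Submodule.span_le]
      rintro _ ⟨i, rfl⟩
      fin_cases i
      · change u * η 1 ∈ V
        rw [hu1]; exact hη 0
      · change u * fa (g 0).1 ∈ V
        rw [hrel]; exact hfb _
      · change u * fa (g 1).1 ∈ V
        rw [hrel]; exact hfb _
    exact this ha

open Polynomial in
/-- Coordinates on an elliptic normal quintic, algebraic part. -/
theorem coords [IsAlgClosed k] (hξ : LinearIndependent k ξ)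
    (h10 : finrank k ↥(Submodule.span k (Set.range ξ) * Submodule.span k (Set.range ξ)) ≤ 10)
    (hK : ∀ t : K, IntermediateField.adjoin k {t} ≠ ⊤)
    (hgen : ∀ a ∈ Submodule.span k (Set.range ξ), a ≠ 0 →
      IntermediateField.adjoin k ((fun x => x / a) '' (Submodule.span k (Set.range ξ) : Set K)) = ⊤) :
    ∃ τ y w : K, Submodule.span k (Set.range ξ) = Submodule.span k {y, τ * y, τ ^ 2 * y, w, τ * w} ∧
      (∀ P R : k[X], Polynomial.aeval τ P * y + Polynomial.aeval τ R * w = 0 → P = 0 ∧ R = 0) ∧
      (∃ A₃ A₂ A₁ : k[X], A₃.natDegree ≤ 3 ∧ A₂.natDegree ≤ 2 ∧ A₁.natDegree ≤ 1 ∧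
        (A₃ ≠ 0 ∨ A₂ ≠ 0 ∨ A₁ ≠ 0) ∧
        y ^ 2 * Polynomial.aeval τ A₃ + y * w * Polynomial.aeval τ A₂ + w ^ 2 * Polynomial.aeval τ A₁ = 0) ∧
      (∀ B₂ B₁ B₀ : k[X], B₂.natDegree ≤ 2 → B₁.natDegree ≤ 1 → B₀.natDegree ≤ 0 →
        y ^ 2 * Polynomial.aeval τ B₂ + y * w * Polynomial.aeval τ B₁ + w ^ 2 * Polynomial.aeval τ B₀ = 0 →
        B₂ = 0 ∧ B₁ = 0 ∧ B₀ = 0) := by
  obtain ⟨u, hu, W, hW, hWV, huW⟩ := exists_u ξ hξ h10
  have h5 : finrank k ↥(Submodule.span k (Set.range ξ)) = 5 := by
    rw [finrank_span_eq_card hξ, Fintype.card_fin]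
  obtain ⟨y, w, hy, hV, hlin⟩ := QuintChain.exists_pencil hK h5 h10 hgen hu W hW hWV huW
  have hfinV : Module.Finite k ↥(Submodule.span k (Set.range ξ)) :=
    Module.Finite.span_of_finite k (Set.finite_range ξ)
  have hyV : y ∈ Submodule.span k (Set.range ξ) := by
    rw [hV]; exact Submodule.subset_span (by simp)
  exact ⟨u, y, w, hV, hlin, QuintChain.exists_rel h10 hV hy hlin,
    QuintChain.no_conic hK hV hy (hgen y hyV hy) hlin⟩

end K419.QuintPts
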