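import Groth.Agent.Fano.K554.ConDeg
import Groth.Agent.Fano.K783.LinPts
import Groth.Agent.Fano.K433.IndepFive

/-!
# Independent conditions on linear forms (definitions for G7 and G8a of S16528)

* `OrdGe j l p d`: the form `l` vanishes on `C` to order `≥ d` at `p`;
* `Indep j B δ`: the divisor `∑ δ_p p` imposes independent conditions on linear forms;
* `IndepStmt f i l`: this holds if the section of the conormal sheaf given by `l` vanishes on the divisor;
* `vanBound`: this gives `K554.ConDeg.VanBound`;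
* `indep_of_sur`: `Indep` from `K433.Indep.Sur`.
-/

set_option autoImplicit false
universe u
open CategoryTheory CategoryTheory.Limits AlgebraicGeometry TopologicalSpace Opposite

namespace K419.ThetaDef

open LefPen K715.Geo K715.Gens K715.Res K560.FormMaps
open Groth.Agent Groth.Agent.Lefpen.H705.HypIdeal Groth.Agent.Lefpen.H705.ChartPoly
open Groth.Agent.Fdesc.LocGen Groth.Agent.Fano.K714.Rat Groth.Agent.CycB.StalkExact
open K554.ConDeg

variable {k : Type u} [Field k]

/-- The form `l` vanishes on `C` to order `≥ d` at `p`. -/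
def OrdGe {n : ℕ} {C : Scheme.{u}} (j : C ⟶ CohB1.ProjSpace n k) {e : ℕ} (l : Form n k e) (p : C) (d : ℕ) : Prop :=
  ∀ (m : Fin (n + 1)) (hp : p ∈ j ⁻¹ᵁ chart n k m),
    C.presheaf.germ (j ⁻¹ᵁ chart n k m) p hp ((j.app (chart n k m)).hom (rho m le_rfl l.1)) ∈
      (IsLocalRing.maximalIdeal (C.presheaf.stalk p)) ^ d

/-- The divisor `∑ δ_p p` imposes independent conditions on linear forms. -/
def Indep {n : ℕ} {C : Scheme.{u}} (j : C ⟶ CohB1.ProjSpace n k) (B : Finset C) (δ : C → ℕ) : Prop :=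
  ∀ U : Submodule k (Form n k 1), (∀ l ∈ U, ∀ p ∈ B, OrdGe j l p (δ p)) →
    Module.finrank k U + ∑ p ∈ B, δ p ≤ n + 1

/-- If the section of the conormal sheaf given by `l` vanishes on `∑ δ_p p`, this divisor imposes independent
conditions on linear forms. -/
def IndepStmt {C : Scheme.{u}} (f : LefPen.Form 4 k 3) (i : C ⟶ Xf f) (l : LefPen.Form 4 k 1) : Prop :=
  ∀ (B : Finset C) (δ : C → ℕ), (∀ p ∈ B, IsClosed ({p} : Set C)) → (∀ p ∈ B, VanAt f i l p (δ p)) →
    Indep (i ≫ emb f) B δ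

theorem ordGe_of_le {n e : ℕ} {C : Scheme.{u}} [IsIntegral C] (j : C ⟶ CohB1.ProjSpace n k) [QuasiCompact j]
    {l : Form n k e} (h : hypIdeal l ≤ j.ker) (p : C) (d : ℕ) : OrdGe j l p d := by
  intro m hp
  rw [(K783.LinPts.hyp_le_iff j m ⟨p, hp⟩ l).1 h, map_zero]
  exact Submodule.zero_mem _

theorem hyp_smul {n e : ℕ} {C : Scheme.{u}} [IsIntegral C] (j : C ⟶ CohB1.ProjSpace n k) [QuasiCompact j]
    {l : Form n k e} (h : hypIdeal l ≤ j.ker) (a : k) : hypIdeal (a • l) ≤ j.ker := by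
  obtain ⟨x⟩ := (inferInstance : Nonempty C)
  have h1 : j x ∈ (⨆ m : Fin (n + 1), chart n k m) := by rw [iSup_chart]; trivial
  obtain ⟨m, hm⟩ := TopologicalSpace.Opens.mem_iSup.1 h1
  have h2 : ((j ⁻¹ᵁ chart n k m : C.Opens) : Set C).Nonempty := ⟨x, hm⟩
  rw [K783.LinPts.hyp_le_iff j m h2] at h ⊢
  have h3 : (a • l).1 = MvPolynomial.C a * l.1 := MvPolynomial.smul_eq_C_mul _ _
  rw [h3, map_mul, map_mul, h, mul_zero]

/-- The bound needed for `H⁰(conormal) = 0`. -/
theorem vanBound {C : Scheme.{u}} [IsIntegral C] {f : LefPen.Form 4 k 3} {i : C ⟶ Xf f} [QuasiCompact (i ≫ emb f)]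
    {l : LefPen.Form 4 k 1} (hl0 : l ≠ 0) (hl : hypIdeal l ≤ (i ≫ emb f).ker) (hW : IndepStmt f i l) :
    VanBound f i l := by
  intro B δ h1 h2
  have h3 := hW B δ h1 h2 (Submodule.span k {l}) (by
    intro l' hl' p hp
    obtain ⟨a, rfl⟩ := Submodule.mem_span_singleton.1 hl'
    exact ordGe_of_le _ (hyp_smul _ hl a) p _)
  rw [finrank_span_singleton hl0] at h3
  omega

open Groth.Agent.Fano.K714.Quart in
/-- `Indep` from the surjectivity onto `∏ O_p / m_p^{δ_p}`. -/
theorem indep_of_sur {C : Scheme.{u}} (j : C ⟶ CohB1.ProjSpace 4 k) (B : Finset C) (δ : C → ℕ)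
    (mc : B → Fin 5) (hmc : ∀ p : B, (p : C) ∈ j ⁻¹ᵁ chart 4 k (mc p))
    [∀ p : B, Algebra k (C.presheaf.stalk (p : C))]
    (halg : ∀ (p : B) (a : k), algebraMap k (C.presheaf.stalk (p : C)) a =
      C.presheaf.germ (j ⁻¹ᵁ chart 4 k (mc p)) p (hmc p)
        ((j.app (chart 4 k (mc p))).hom (rho (mc p) le_rfl (MvPolynomial.C a))))
    [∀ p : B, IsDomain (C.presheaf.stalk (p : C))] [∀ p : B, IsDiscreteValuationRing (C.presheaf.stalk (p : C))]
    (hres : ∀ (p : B) (x : C.presheaf.stalk (p : C)), ∃ a : k,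
      x - algebraMap k (C.presheaf.stalk (p : C)) a ∈ IsLocalRing.maximalIdeal (C.presheaf.stalk (p : C)))
    (h : K433.Indep.Sur k (O := fun p : B => C.presheaf.stalk (p : C)) (fun p c =>
      C.presheaf.germ (j ⁻¹ᵁ chart 4 k (mc p)) p (hmc p)
        ((j.app (chart 4 k (mc p))).hom (rho (mc p) le_rfl (MvPolynomial.X c)))) (fun p => δ p)) :
    Indep j B δ := by
  intro U hU
  have h1 := K433.Indep.finrank_van hres _ _ h
  have h2 : ∑ p ∈ B, δ p = ∑ p : B, δ p := (Finset.sum_coe_sort B δ).symm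
  rw [h2]
  have hker : LinearMap.ker (K560.QuartAlg.linL (k := k)) = ⊥ := by
    rw [LinearMap.ker_eq_bot]
    intro v w hvw
    exact K783.LinPts.lin_injective hvw
  have h3 : Module.finrank k U ≤ Module.finrank k (Submodule.comap (K560.QuartAlg.linL (k := k)) U) := by
    have h4 : U = Submodule.map (K560.QuartAlg.linL (k := k)) (Submodule.comap (K560.QuartAlg.linL (k := k)) U) := by
      rw [Submodule.map_comap_eq, LinearMap.range_eq_top.2, top_inf_eq]
      intro l
      obtain ⟨v, rfl⟩ := K783.LinPts.lin_surjective l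
      exact ⟨v, rfl⟩
    conv_lhs => rw [h4]
    exact Submodule.finrank_map_le _ _
  have h5 : Module.finrank k (Submodule.comap (K560.QuartAlg.linL (k := k)) U) ≤
      Module.finrank k (K433.Indep.van k (O := fun p : B => C.presheaf.stalk (p : C)) (fun p c =>
      C.presheaf.germ (j ⁻¹ᵁ chart 4 k (mc p)) p (hmc p)
        ((j.app (chart 4 k (mc p))).hom (rho (mc p) le_rfl (MvPolynomial.X c)))) (fun p => δ p)) := by
    refine Submodule.finrank_mono fun v hv => ?_
    rw [K433.Indep.mem_van]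
    intro p
    have h6 := hU (lin v) hv p p.2 (mc p) (hmc p)
    have h7 : C.presheaf.germ (j ⁻¹ᵁ chart 4 k (mc p)) p (hmc p)
        ((j.app (chart 4 k (mc p))).hom (rho (mc p) le_rfl (lin v).1)) = ∑ c, v c •
        (C.presheaf.germ (j ⁻¹ᵁ chart 4 k (mc p)) p (hmc p)
        ((j.app (chart 4 k (mc p))).hom (rho (mc p) le_rfl (MvPolynomial.X c)))) := by
      have h8 : (lin v).1 = ∑ c, MvPolynomial.C (v c) * MvPolynomial.X c := by
        have : (lin v).1 = ∑ c, v c • (MvPolynomial.X c : MvPolynomial (Fin 5) k) := by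
          simp [lin]
        rw [this]
        exact Finset.sum_congr rfl fun c _ => MvPolynomial.smul_eq_C_mul _ _
      rw [h8]
      let Φ : MvPolynomial (Fin 5) k →+* C.presheaf.stalk (p : C) :=
        (C.presheaf.germ (j ⁻¹ᵁ chart 4 k (mc p)) p (hmc p)).hom.comp
          ((j.app (chart 4 k (mc p))).hom.comp (rho (mc p) le_rfl))
      change Φ _ = _
      rw [map_sum]
      refine Finset.sum_congr rfl fun c _ => ?_
      rw [map_mul, Algebra.smul_def, halg p (v c)]
      rfl
    rwa [h7] at h6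
  omega

end K419.ThetaDef
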