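import Groth.Agent.Fano.K419.MuMap
import Groth.Agent.Fano.K419.HomDim
import Groth.Agent.Fano.K419.CountLin
import Groth.Agent.Fano.K419.ThetaDef
import Groth.Agent.Fdesc.StructMod

/-!
# G8a of S16528: not every map `conormal ⟶ O_C` comes from linear forms

`C` an elliptic quintic on the smooth cubic threefold `X` contained in the hyperplane `l = 0`. The section of the
conormal sheaf given by `l` vanishes on the divisor `D`; `h⁰(O_C(1)(-D)) = 5 - deg D`, whereas the linear forms which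
vanish on `D` form modulo `l` a space of dimension `4 - deg D`.
-/

set_option autoImplicit false
universe u
open CategoryTheory CategoryTheory.Limits AlgebraicGeometry TopologicalSpace Opposite

namespace K419.ThetaCount

open LefPen K715.Geo K715.Gens K715.Res K560.FormMaps
open Groth.Agent Groth.Agent.Lefpen.H705.HypIdeal Groth.Agent.Lefpen.H705.ChartPoly
open Groth.Agent.Fdesc.LocGen Groth.Agent.Fano.K714.Rat Groth.Agent.CycB.StalkExact
open K419.MuMap K419.ThetaMap K419.ThetaDef K554.ConDeg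

variable {k : Type u} [Field k]

/-- `lam` at the stalks -/
theorem vanAt_of {C : Scheme.{u}} (f : LefPen.Form 4 k 3) (i : C ⟶ Xf f) (l : LefPen.Form 4 k 1)
    {lam : (Scheme.Modules.pullback (i ≫ emb f)).obj (OO 4 k (-((1 : ℕ) : ℤ))) ⟶ Omega.conormal i}
    (hlam : ∀ (m : Fin 5) (c : Γ(ClSub.idealMod i.ker, (emb f) ⁻¹ᵁ chart 4 k m)),
        (ClSub.idealModι i.ker).app ((emb f) ⁻¹ᵁ chart 4 k m) c = (emb f).app (chart 4 k m) (rho m le_rfl l.1) →
        lam.app ((i ≫ emb f) ⁻¹ᵁ chart 4 k m) (pullSec (i ≫ emb f) (eg m (-((1 : ℕ) : ℤ)) le_rfl)) = pullSec i c)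
    (x : C) (d : ℕ) (h : ∀ z : ((Scheme.Modules.pullback (i ≫ emb f)).obj
      (OO 4 k (-((1 : ℕ) : ℤ)))).presheaf.stalk x, stalkLin lam x z ∈
        (IsLocalRing.maximalIdeal (C.presheaf.stalk x)) ^ d •
          (⊤ : Submodule (C.presheaf.stalk x) ((Omega.conormal i).presheaf.stalk x))) : VanAt f i l x d := by
  intro m hp c hc
  have h1 := h (((Scheme.Modules.pullback (i ≫ emb f)).obj (OO 4 k (-((1 : ℕ) : ℤ)))).presheaf.germ
    ((i ≫ emb f) ⁻¹ᵁ chart 4 k m) x hp (pullSec (i ≫ emb f) (eg m (-((1 : ℕ) : ℤ)) le_rfl)))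
  rw [stalkLin_germ, hlam m c hc] at h1
  exact h1

theorem stalkLin_zero {C : Scheme.{u}} {M N : C.Modules} (y : C) (z : M.presheaf.stalk y) :
    stalkLin (0 : M ⟶ N) y z = 0 := by
  have := (stalkFun (X := C) y).map_zero M N
  change ((stalkFun y).map (0 : M ⟶ N)).hom z = 0
  rw [this]
  rfl

/-- The linear forms which vanish on the divisor `∑ δ_p p`. -/
def vanForms {C : Scheme.{u}} (j : C ⟶ CohB1.ProjSpace 4 k) (B : Finset C) (δ : C → ℕ) :
    Submodule k (Form 4 k 1) where
  carrier := {l | ∀ p ∈ B, OrdGe j l p (δ p)}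
  add_mem' {a b} ha hb p hpB m hp := by
    have h := Submodule.add_mem _ (ha p hpB m hp) (hb p hpB m hp)
    rw [← map_add, ← map_add, ← map_add] at h
    exact h
  zero_mem' p hpB m hp := by
    have h : ((0 : Form 4 k 1).1 : MvPolynomial (Fin 5) k) = 0 := rfl
    rw [h, map_zero, map_zero, map_zero]
    exact Submodule.zero_mem _
  smul_mem' a l hl p hpB m hp := by
    have h3 : (a • l).1 = MvPolynomial.C a * l.1 := MvPolynomial.smul_eq_C_mul _ _
    rw [h3, map_mul, map_mul, map_mul]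
    exact Ideal.mul_mem_left _ _ (hl p hpB m hp)

/-- Vanishing of the germ of a function. -/
theorem mem_pow_of_germ {C : Scheme.{u}} {U : C.Opens} {p : C} (hp : p ∈ U) (z : Γ(C, U)) (d : ℕ)
    (h : (Coh.structureModule C).presheaf.germ U p hp (ofFun z) ∈
      (IsLocalRing.maximalIdeal (C.presheaf.stalk p)) ^ d •
        (⊤ : Submodule (C.presheaf.stalk p) ((Coh.structureModule C).presheaf.stalk p))) :
    C.presheaf.germ U p hp z ∈ (IsLocalRing.maximalIdeal (C.presheaf.stalk p)) ^ d := by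
  have h1 := Submodule.mem_map_of_mem (f := (Fdesc.StructMod.stalkEquiv p).symm.toLinearMap) h
  have h2 : (Coh.structureModule C).presheaf.germ U p hp (ofFun z) =
      Fdesc.StructMod.stalkEquiv p (C.presheaf.germ U p hp z) :=
    (Fdesc.StructMod.stalkEquiv_germ p hp z).symm
  rw [h2] at h1
  rw [Submodule.map_smul''] at h1
  have h3 : (Fdesc.StructMod.stalkEquiv p).symm.toLinearMap
      (Fdesc.StructMod.stalkEquiv p (C.presheaf.germ U p hp z)) = C.presheaf.germ U p hp z :=
    (Fdesc.StructMod.stalkEquiv p).symm_apply_apply _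
  rw [h3] at h1
  have h4 : (IsLocalRing.maximalIdeal (C.presheaf.stalk p)) ^ d •
      (⊤ : Submodule (C.presheaf.stalk p) (C.presheaf.stalk p)) =
      (IsLocalRing.maximalIdeal (C.presheaf.stalk p)) ^ d := by
    rw [Ideal.smul_top_eq_map]
    simp
  rw [← h4]
  exact Submodule.smul_mono le_rfl le_top h1

variable [IsAlgClosed k]

theorem main (f : LefPen.Form 4 k 3) (hf : f ≠ 0) [Smooth (ps f)]
    {C : Scheme.{u}} [C.Over (Spec (CommRingCat.of k))]
    [IsProper (C ↘ Spec (CommRingCat.of k))] [Smooth (C ↘ Spec (CommRingCat.of k))] [IsIntegral C]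
    (hdim : topologicalKrullDim C = 1)
    (i : C ⟶ Xf f) [IsClosedImmersion i] (hi : i ≫ ps f = C ↘ Spec (CommRingCat.of k))
    (hg : Curv2.genus k C = 1)
    (hdeg : Curv2.deg k C ((Scheme.Modules.pullback (i ≫ emb f)).obj (Twist.twistProjSpace 4 k 1)) 1 = 5)
    (h0 : Subsingleton (Coh.HH C (Omega.conormal i) 0))
    (l : LefPen.Form 4 k 1) (hl0 : l ≠ 0) (hl : hypIdeal l ≤ (i ≫ emb f).ker) (hW : IndepStmt f i l)
    (m : Fin 5) (hm : (((i ≫ emb f) ⁻¹ᵁ chart 4 k m : C.Opens) : Set C).Nonempty) :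
    ∃ θ : Omega.conormal i ⟶ Coh.structureModule C, ∀ l₁ : LefPen.Form 4 k 1,
      ¬ ∀ s : Γ(ClSub.idealMod i.ker, emb f ⁻¹ᵁ chart 4 k m),
        (ClSub.idealModι i.ker).app (emb f ⁻¹ᵁ chart 4 k m) s =
          ofFun (((emb f).app (chart 4 k m)).hom (rho m le_rfl l.1)) →
        θ.app (i ⁻¹ᵁ emb f ⁻¹ᵁ chart 4 k m) (pullSec i s) =
          ofFun ((i.app (emb f ⁻¹ᵁ chart 4 k m)).hom (((emb f).app (chart 4 k m)).hom (rho m le_rfl l₁.1))) := by
  by_contra hcon
  push Not at hcon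
  have hj : (i ≫ emb f) ≫ CohB1.ProjSpace.toSpec 4 k = C ↘ Spec (CommRingCat.of k) := by
    rw [Category.assoc]; exact hi
  have hc : GeometricallyConnected (C ↘ Spec (CommRingCat.of k)) :=
    Fdesc.GeomAlgClosed.geometricallyConnected_of_connectedSpace _
  obtain ⟨ω⟩ := S7831.result k C hdim hg
  have Cv : K707.Base.Crv k C := K707.Base.Crv.of_smooth hdim
  have hE := K560.EllReg.locFree_conormal f hf hdim i hi
  have hE' := Groth.Agent.Krr.H487.KerRank.isFinLocFree_of_rank hE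
  have hdE := K560.EllReg.deg_conormal f hf hdim i hi ⟨ω⟩
  obtain ⟨lam, hlam⟩ := K419.ThetaMap.exists_lam i (emb f) l hl
  have hst := vanAt_of f i l hlam
  obtain ⟨c₀, hc₀⟩ := exists_c i (emb f) l hl m
  have hne : lam ≠ 0 := by
    rintro rfl
    obtain ⟨x, hx⟩ := K708.PtTwist.exists_closedPoint k (X := C)
    have h2 := hW {x} (fun _ => 6) (fun y hy => by rw [Finset.mem_singleton.mp hy]; exact hx)
      (fun y _ => hst y 6 fun z => by
        rw [stalkLin_zero]
        exact Submodule.zero_mem _) ⊥ (fun l' hl' p _ => by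
          rw [(Submodule.mem_bot k).1 hl']
          intro m' hp
          have h : ((0 : Form 4 k 1).1 : MvPolynomial (Fin 5) k) = 0 := rfl
          rw [h, map_zero, map_zero, map_zero]
          exact Submodule.zero_mem _)
    simp at h2
  have hL : PicF.IsInvertible ((Scheme.Modules.pullback (i ≫ emb f)).obj (OO 4 k (-((1 : ℕ) : ℤ)))) :=
    MuMap.isInv (i ≫ emb f) _
  obtain ⟨A, Q, ja, q, w, a, B, δ, hS, hA, hQ, haj, hBc, hB, e1, e2⟩ := K554.SatLine.exists_sat Cv hL hE lam hne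
  have h4 := hW B δ hBc (fun x hx => hst x (δ x) (hB x hx)) (vanForms (i ≫ emb f) B δ) fun l hl => hl
  have e3 := Coherent.K47.LinkEuler.deg_twist k C hdim.le (i ≫ emb f) (-((1 : ℕ) : ℤ))
  rw [hdeg] at e3 hdE
  have hfV : Module.Finite k (Omega.conormal i ⟶ Coh.structureModule C) :=
    K706.HomFin.finite_hom k hE' MuMap.isFinLocFree_unit
  have hfQ : Module.Finite k (Q ⟶ Coh.structureModule C) :=
    K706.HomFin.finite_hom k (K707.Base.isFinLocFree_of_rank (K704.Sat.rank_of_isInvertible hQ)) MuMap.isFinLocFree_unit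
  have hfW : Module.Finite k (Form 4 k 1) := inferInstance
  let R : Submodule k ((Omega.conormal i ⟶ Coh.structureModule C) × Form 4 k 1) :=
    { carrier := {x | lam ≫ x.1 = mu (i ≫ emb f) x.2}
      add_mem' := fun {x y} (hx : lam ≫ x.1 = _) (hy : lam ≫ y.1 = _) => by
        change lam ≫ (x.1 + y.1) = mu (i ≫ emb f) (x.2 + y.2)
        rw [Preadditive.comp_add, hx, hy, mu_add _ Cv]
      zero_mem' := by
        change lam ≫ 0 = mu (i ≫ emb f) 0
        have h := mu_smul (i ≫ emb f) hj Cv (0 : k) (0 : Form 4 k 1)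
        rw [zero_smul, zero_smul] at h
        rw [h, comp_zero]
      smul_mem' := fun b x (hx : lam ≫ x.1 = _) => by
        change lam ≫ (b • x.1) = mu (i ≫ emb f) (b • x.2)
        rw [Linear.comp_smul, hx, mu_smul _ hj Cv] }
  have hcount := CountLin.count R (fun θ => by
      obtain ⟨l₁, h1⟩ := hcon θ
      refine ⟨l₁, ?_⟩
      change lam ≫ θ = mu (i ≫ emb f) l₁
      refine hom_ext_eg (i ≫ emb f) Cv isFinLocFree_unit hm ?_
      have h2 := h1 c₀ hc₀
      have h3 := hlam m c₀ hc₀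
      rw [mu_app]
      exact (congrArg (fun z => θ.app ((i ≫ emb f) ⁻¹ᵁ chart 4 k m) z) h3).trans h2)
    hl0 (by
      change lam ≫ 0 = mu (i ≫ emb f) l
      rw [comp_zero]
      refine hom_ext_eg (i ≫ emb f) Cv isFinLocFree_unit hm ?_
      rw [mu_app, (K783.LinPts.hyp_le_iff (i ≫ emb f) m hm l).1 hl]
      rfl)
    (vanForms (i ≫ emb f) B δ) (fun θ l' (hθ : lam ≫ θ = mu (i ≫ emb f) l') p hpB m' hp => by
      refine mem_pow_of_germ hp _ _ ?_
      have h5 := stalkLin_germ (mu (i ≫ emb f) l') p hp (pullSec (i ≫ emb f) (eg m' (-((1 : ℕ) : ℤ)) le_rfl))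
      rw [mu_app] at h5
      rw [← h5, ← hθ, stalkLin_comp]
      have h6 := Submodule.mem_map_of_mem (f := stalkLin θ p) (hB p hpB
        (((Scheme.Modules.pullback (i ≫ emb f)).obj (OO 4 k (-((1 : ℕ) : ℤ)))).presheaf.germ _ p hp
          (pullSec (i ≫ emb f) (eg m' (-((1 : ℕ) : ℤ)) le_rfl))))
      rw [Submodule.map_smul''] at h6
      exact Submodule.smul_mono le_rfl le_top h6)
    (LinearMap.range (Linear.leftComp k (Coh.structureModule C) q)) (fun θ (hθ : lam ≫ θ = mu (i ≫ emb f) 0) => by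
      have h := mu_smul (i ≫ emb f) hj Cv (0 : k) (0 : Form 4 k 1)
      rw [zero_smul, zero_smul] at h
      rw [h, ← haj, Category.assoc] at hθ
      have h7 : ja ≫ θ = 0 := by
        by_contra hne2
        have hm2 := K704.Sat.mono_of_ne_zero Cv hA MuMap.isFinLocFree_unit (ja ≫ θ) hne2
        have h8 : a = 0 := by
          rw [← cancel_mono (ja ≫ θ), hθ, zero_comp]
        exact hne (by rw [← haj, h8, zero_comp])
      have := hS.epi_g
      exact ⟨hS.exact.desc θ h7, hS.exact.g_desc θ h7⟩)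
  have h9 := LinearMap.finrank_range_le (Linear.leftComp k (Coh.structureModule C) q)
  have h10 : 0 ≤ ∑ p ∈ B, (δ p : ℤ) := Finset.sum_nonneg fun _ _ => Int.natCast_nonneg _
  have h11 : Curv2.deg k C A 1 = -5 + ∑ p ∈ B, (δ p : ℤ) := by
    rw [e1]
    change Curv2.deg k C ((Scheme.Modules.pullback (i ≫ emb f)).obj (Twist.twistProjSpace 4 k _)) 1 + _ = _
    rw [e3]
    push_cast
    ring
  have h12 := K419.HomDim.finrank_hom hdim hg hE h0
  have h13 := K419.HomDim.finrank_hom_inv hdim hg hQ (by linarith)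
  have h14 : (∑ p ∈ B, (δ p : ℤ)) = ((∑ p ∈ B, δ p : ℕ) : ℤ) := by push_cast; rfl
  rw [h14] at h11
  omega

end K419.ThetaCount
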